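import Cfsg.Agent.Lib.FitTwo.Pq
import Cfsg.Agent.Lib.PGroup.Basic
import Cfsg.Agent.Lib.PGroup.Elements
import Cfsg.Agent.Lib.Thompson.FixedPointFree

/-!
The minimal configuration: a `t`-group `T` moved by a `u`-group `U`, both normalised by `A` of order `p q`
without fixed points.
-/

set_option autoImplicit false

namespace Cfsg.Lib.FitTwo

open Subgroup
open scoped commutatorElement

universe w

variable {Γ : Type w} [Group Γ]

/-- The configuration. -/
structure Cfg (A Q T U : Subgroup Γ) (p q t u : ℕ) : Prop where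
  pq : Pq A Q p q
  tprime : t.Prime
  uprime : u.Prime
  tu : t ≠ u
  tp : t ≠ p
  tq : t ≠ q
  up : u ≠ p
  uq : u ≠ q
  hT : IsPGroup t T
  hU : IsPGroup u U
  UT : U ≤ normalizer (T : Set Γ)
  AT : A ≤ normalizer (T : Set Γ)
  AU : A ≤ normalizer (U : Set Γ)
  top : T ⊔ U ⊔ A = ⊤
  cT : T ⊓ centralizer (A : Set Γ) = ⊥
  cU : U ⊓ centralizer (A : Set Γ) = ⊥
  Tne : T ≠ ⊥
  TU_eq : ⁅T, U⁆ = T
  Tmin : ∀ L < T, U ≤ normalizer (L : Set Γ) → A ≤ normalizer (L : Set Γ) → ⁅L, U⁆ = ⊥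
  Umin : ∀ L < U, A ≤ normalizer (L : Set Γ) → ⁅T, L⁆ = ⊥

namespace Cfg

variable [Finite Γ] {A Q T U : Subgroup Γ} {p q t u : ℕ}

theorem commute_of_commutator_eq_bot {X Y : Subgroup Γ} (h : ⁅X, Y⁆ = ⊥) :
    ∀ x ∈ X, ∀ y ∈ Y, x * y = y * x := fun _ hx _ hy =>
  commutatorElement_eq_one_iff_mul_comm.1 (mem_bot.1 (h ▸ commutator_mem_commutator hx hy))

theorem commutator_eq_bot_iff' {X Y : Subgroup Γ} : ⁅X, Y⁆ = ⊥ ↔ X ≤ centralizer (Y : Set Γ) :=
  Subgroup.commutator_eq_bot_iff_le_centralizer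

theorem T_normal (h : Cfg A Q T U p q t u) : T.Normal := by
  rw [← normalizer_eq_top_iff, eq_top_iff, ← h.top]
  exact sup_le (sup_le le_normalizer h.UT) h.AT

theorem isSolvable_T (h : Cfg A Q T U p q t u) : Group.IsSolvable T := by
  haveI := Fact.mk h.tprime
  haveI := h.hT.isNilpotent
  exact IsNilpotent.to_isSolvable

theorem isSolvable_U (h : Cfg A Q T U p q t u) : Group.IsSolvable U := by
  haveI := Fact.mk h.uprime
  haveI := h.hU.isNilpotent
  exact IsNilpotent.to_isSolvable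

theorem cop_T (h : Cfg A Q T U p q t u) : (Nat.card A).Coprime (Nat.card T) := by
  haveI := Fact.mk h.tprime
  obtain ⟨e, he⟩ := IsPGroup.iff_card.1 h.hT
  rw [h.pq.card, he]
  exact Nat.Coprime.pow_right _ (Nat.Coprime.mul_left ((Nat.coprime_primes h.pq.pprime h.tprime).2 h.tp.symm)
    ((Nat.coprime_primes h.pq.qprime h.tprime).2 h.tq.symm))

theorem cop_U (h : Cfg A Q T U p q t u) : (Nat.card A).Coprime (Nat.card U) := by
  haveI := Fact.mk h.uprime
  obtain ⟨e, he⟩ := IsPGroup.iff_card.1 h.hU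
  rw [h.pq.card, he]
  exact Nat.Coprime.pow_right _ (Nat.Coprime.mul_left ((Nat.coprime_primes h.pq.pprime h.uprime).2 h.up.symm)
    ((Nat.coprime_primes h.pq.qprime h.uprime).2 h.uq.symm))

theorem cop_TU (h : Cfg A Q T U p q t u) : (Nat.card U).Coprime (Nat.card T) := by
  haveI := Fact.mk h.uprime
  haveI := Fact.mk h.tprime
  exact IsPGroup.coprime_card_of_ne u t h.tu.symm U T h.hU h.hT

/-- The Frattini subgroup of `T`, in `Γ`. -/
abbrev Phi (T : Subgroup Γ) : Subgroup Γ := (frattini T).map T.subtype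

theorem Phi_le (T : Subgroup Γ) : Phi T ≤ T := map_subtype_le _

theorem Phi_normal (h : Cfg A Q T U p q t u) : (Phi T).Normal := by
  haveI := h.T_normal
  exact Cfsg.Lib.Core.normal_map_char_of_normal _

theorem Phi_lt (h : Cfg A Q T U p q t u) : Phi T < T := by
  refine lt_of_le_of_ne (Phi_le T) fun e => ?_
  haveI : Nontrivial T := (nontrivial_iff_ne_bot T).2 h.Tne
  refine Cfsg.Lib.PGroup.frattini_ne_top (G := T) (map_injective (subtype_injective T) ?_)
  rw [← MonoidHom.range_eq_map, range_subtype]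
  exact e

theorem comm_mem_Phi (h : Cfg A Q T U p q t u) {x y : Γ} (hx : x ∈ T) (hy : y ∈ T) : ⁅x, y⁆ ∈ Phi T := by
  haveI := Fact.mk h.tprime
  exact ⟨⁅(⟨x, hx⟩ : T), ⟨y, hy⟩⁆, Cfsg.Lib.PGroup.commutator_le_frattini h.hT
    (commutator_mem_commutator (mem_top _) (mem_top _)), rfl⟩

theorem pow_mem_Phi (h : Cfg A Q T U p q t u) {x : Γ} (hx : x ∈ T) : x ^ t ∈ Phi T := by
  haveI := Fact.mk h.tprime
  exact ⟨(⟨x, hx⟩ : T) ^ t, Cfsg.Lib.PGroup.pow_mem_frattini h.hT _, rfl⟩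

theorem sup_Phi_eq (h : Cfg A Q T U p q t u) {L : Subgroup Γ} (hL : L ≤ T) (hs : L ⊔ Phi T = T) : L = T := by
  haveI : Finite T := inferInstance
  have h1 : L.subgroupOf T ⊔ frattini T = ⊤ := by
    refine map_injective (subtype_injective T) ?_
    rw [Subgroup.map_sup, map_subgroupOf_eq_of_le hL, ← MonoidHom.range_eq_map, range_subtype]
    exact hs
  exact le_antisymm hL (subgroupOf_eq_top.1 (frattini_nongenerating h1))

theorem Phi_cent_U (h : Cfg A Q T U p q t u) : ⁅Phi T, U⁆ = ⊥ := by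
  haveI := h.Phi_normal
  exact h.Tmin _ h.Phi_lt (by rw [normalizer_eq_top]; exact le_top) (by rw [normalizer_eq_top]; exact le_top)

theorem Phi_cent_T (h : Cfg A Q T U p q t u) : ⁅Phi T, T⁆ = ⊥ := by
  haveI := h.Phi_normal
  haveI := h.T_normal
  have h1 : ⁅⁅U, Phi T⁆, T⁆ = ⊥ := by rw [Subgroup.commutator_comm U, h.Phi_cent_U, Subgroup.commutator_bot_left]
  have h2 : ⁅⁅Phi T, T⁆, U⁆ = ⊥ := le_bot_iff.1
    ((commutator_mono (Subgroup.commutator_le_left _ _) le_rfl).trans h.Phi_cent_U.le)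
  have h3 := Subgroup.commutator_commutator_eq_bot_of_rotate h1 h2
  rwa [h.TU_eq, Subgroup.commutator_comm] at h3

theorem Phi_central (h : Cfg A Q T U p q t u) {c x : Γ} (hc : c ∈ Phi T) (hx : x ∈ T) : c * x = x * c :=
  commute_of_commutator_eq_bot h.Phi_cent_T c hc x hx

theorem T_inf_CU (h : Cfg A Q T U p q t u) : T ⊓ centralizer (U : Set Γ) ≤ Phi T := by
  haveI := h.Phi_normal
  haveI := h.T_normal
  haveI := Fact.mk h.tprime
  set π := QuotientGroup.mk' (Phi T) with hπ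
  haveI : IsMulCommutative (T.map π) := ⟨⟨fun a b => by
    obtain ⟨x, hx, hxa⟩ := a.2
    obtain ⟨y, hy, hyb⟩ := b.2
    refine Subtype.ext ?_
    show (a : Γ ⧸ Phi T) * b = b * a
    rw [← hxa, ← hyb, ← commutatorElement_eq_one_iff_mul_comm, ← map_commutatorElement]
    exact (QuotientGroup.eq_one_iff _).2 (h.comm_mem_Phi hx hy)⟩⟩
  intro x hx
  have h1 : π x ∈ T.map π ⊓ centralizer ((U.map π : Subgroup _) : Set (Γ ⧸ Phi T)) := by
    rw [← Cfsg.Lib.Coprime.map_inf_centralizer_eq π h.UT h.cop_TU (Or.inl h.isSolvable_U)]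
    exact mem_map_of_mem π hx
  have h2 : π x ∈ ⁅T.map π, U.map π⁆ := by
    rw [← map_commutator, h.TU_eq]
    exact h1.1
  have hd := Cfsg.Lib.Coprime.disjoint_commutator_centralizer (G := T.map π) (A := U.map π)
    ((map_mono h.UT).trans (le_normalizer_map π))
    ((h.cop_TU.coprime_dvd_left (card_map_dvd _ _)).coprime_dvd_right (card_map_dvd _ _))
  exact (QuotientGroup.eq_one_iff _).1 (Subgroup.disjoint_def.1 hd h2 h1.2)

/-- The elements of `U` centralising `T`. -/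
abbrev DD (T U : Subgroup Γ) : Subgroup Γ := U ⊓ centralizer (T : Set Γ)

theorem mem_DD_of_commutator {L : Subgroup Γ} (h : Cfg A Q T U p q t u) (hL : L ≤ U) (hne : L ≠ U)
    (hA : A ≤ normalizer (L : Set Γ)) : L ≤ DD T U :=
  le_inf hL (commutator_eq_bot_iff'.1 (by rw [Subgroup.commutator_comm]; exact h.Umin L (lt_of_le_of_ne hL hne) hA))

theorem DD_normal (h : Cfg A Q T U p q t u) : (DD T U).Normal := by
  rw [← normalizer_eq_top_iff, eq_top_iff, ← h.top]
  have hgen : ∀ g : Γ, (∀ x ∈ U, g * x * g⁻¹ ∈ U) → g ∈ normalizer (T : Set Γ) → ∀ x ∈ DD T U,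
      g * x * g⁻¹ ∈ DD T U := fun g hg hgT x hx =>
    ⟨hg x hx.1, mem_centralizer_iff.2 fun y hy => by
      have hy' : g⁻¹ * y * g ∈ T := by
        simpa using Cfsg.Lib.Coprime.conj_mem_of_mem_normalizer (inv_mem hgT) hy
      have := mem_centralizer_iff.1 hx.2 _ hy'
      calc y * (g * x * g⁻¹) = g * ((g⁻¹ * y * g) * x) * g⁻¹ := by group
        _ = g * (x * (g⁻¹ * y * g)) * g⁻¹ := by rw [this]
        _ = _ := by group⟩
  have mk : ∀ L : Subgroup Γ, (∀ g ∈ L, ∀ x ∈ DD T U, g * x * g⁻¹ ∈ DD T U) →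
      L ≤ normalizer ((DD T U : Subgroup Γ) : Set Γ) := fun L hL g hg => by
    rw [mem_normalizer_iff_map_conj_eq]
    refine eq_of_le_of_card_ge ?_ (card_map_of_injective (MulAut.conj g).injective).ge
    rintro _ ⟨x, hx, rfl⟩
    exact hL g hg x hx
  refine sup_le (sup_le (mk T fun g hg x hx => ?_)
    (mk U fun g hg => hgen g (fun x hx => mul_mem (mul_mem hg hx) (inv_mem hg)) (h.UT hg)))
    (mk A fun g hg => hgen g (fun x hx => Cfsg.Lib.Coprime.conj_mem_of_mem_normalizer (h.AU hg) hx) (h.AT hg))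
  rw [mem_centralizer_iff.1 hx.2 g hg, mul_inv_cancel_right]
  exact hx

theorem le_normalizer_commutator_of {X M L : Subgroup Γ} (h1 : X ≤ normalizer (M : Set Γ))
    (h2 : X ≤ normalizer (L : Set Γ)) : X ≤ normalizer ((⁅M, L⁆ : Subgroup Γ) : Set Γ) := fun g hg => by
  rw [mem_normalizer_iff_map_conj_eq, map_commutator, mem_normalizer_iff_map_conj_eq.1 (h1 hg),
    mem_normalizer_iff_map_conj_eq.1 (h2 hg)]

theorem le_normalizer_commutator_left' (X Y : Subgroup Γ) :
    X ≤ normalizer ((⁅X, Y⁆ : Subgroup Γ) : Set Γ) := fun g hg => by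
  rw [mem_normalizer_iff_map_conj_eq]
  refine eq_of_le_of_card_ge (map_le_iff_le_comap.2 (commutator_le.2 fun a ha b hb => ?_))
    (card_map_of_injective (MulAut.conj g).injective).ge
  show g * ⁅a, b⁆ * g⁻¹ ∈ ⁅X, Y⁆
  rw [show g * ⁅a, b⁆ * g⁻¹ = ⁅g * a, b⁆ * ⁅g, b⁆⁻¹ by simp only [commutatorElement_def]; group]
  exact mul_mem (commutator_mem_commutator (mul_mem hg ha) hb) (inv_mem (commutator_mem_commutator hg hb))

theorem U_comm_le (h : Cfg A Q T U p q t u) : ⁅U, U⁆ ≤ DD T U := by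
  haveI := Fact.mk h.uprime
  refine h.mem_DD_of_commutator (commutator_le.2 fun a ha b hb => ?_) ?_ (le_normalizer_commutator_of h.AU h.AU)
  · rw [commutatorElement_def]; exact mul_mem (mul_mem (mul_mem ha hb) (inv_mem ha)) (inv_mem hb)
  · have hUne : U ≠ ⊥ := fun e => h.Tne (by rw [← h.TU_eq, e, Subgroup.commutator_bot_right])
    haveI := h.hU.isNilpotent
    intro e
    have hh : (⁅(⊤ : Subgroup U), (⊤ : Subgroup U)⁆ : Subgroup U).map U.subtype = ⁅U, U⁆ := by
      rw [map_commutator, ← MonoidHom.range_eq_map, range_subtype]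
    refine Cfsg.Lib.PGroup.commutator_ne_self_of_isNilpotent (G := U) (V := ⊤) (P := ⊤)
      (fun e' => hUne ?_) (map_injective (subtype_injective U) (hh.trans (e.trans ?_)))
    · haveI : Subsingleton U := subsingleton_iff.1 (subsingleton_of_bot_eq_top e'.symm)
      exact Subgroup.eq_bot_of_subsingleton U
    · rw [← MonoidHom.range_eq_map, range_subtype]

theorem QU_cases (h : Cfg A Q T U p q t u) : ⁅U, Q⁆ = U ∨ ⁅U, Q⁆ ≤ DD T U := by
  by_cases e : ⁅U, Q⁆ = U
  · exact Or.inl e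
  · exact Or.inr (h.mem_DD_of_commutator (Cfsg.Lib.Coprime.commutator_le_of_le_normalizer (h.pq.qle.trans h.AU))
      e (le_normalizer_commutator_of h.AU h.pq.qnorm))

/-- The image of `U` modulo `DD` is abelian. -/
theorem mulComm_U (h : Cfg A Q T U p q t u) [(DD T U).Normal] :
    IsMulCommutative (U.map (QuotientGroup.mk' (DD T U))) := ⟨⟨fun a b => by
  obtain ⟨x, hx, hxa⟩ := a.2
  obtain ⟨y, hy, hyb⟩ := b.2
  refine Subtype.ext ?_
  show (a : Γ ⧸ DD T U) * b = b * a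
  rw [← hxa, ← hyb, ← commutatorElement_eq_one_iff_mul_comm, ← map_commutatorElement]
  exact (QuotientGroup.eq_one_iff _).2 (h.U_comm_le (commutator_mem_commutator hx hy))⟩⟩

theorem cent_U_mod {h : Cfg A Q T U p q t u} [(DD T U).Normal] {w : Γ ⧸ DD T U}
    (hw : w ∈ U.map (QuotientGroup.mk' (DD T U)))
    (hwc : w ∈ centralizer ((A.map (QuotientGroup.mk' (DD T U)) : Subgroup _) : Set (Γ ⧸ DD T U))) : w = 1 := by
  have := Cfsg.Lib.Coprime.map_inf_centralizer_eq (QuotientGroup.mk' (DD T U)) h.AU h.cop_U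
    (Or.inl h.pq.isSolvable)
  rw [h.cU, Subgroup.map_bot] at this
  exact mem_bot.1 (this ▸ ⟨hw, hwc⟩)

/-- Case one: fixed points of a subgroup of order `p` on `U` centralise `T`. -/
theorem fix_U_le (h : Cfg A Q T U p q t u) (hQ : ⁅U, Q⁆ ≤ DD T U) {S : Subgroup Γ} (hS : S ≤ A)
    (hc : Nat.card S = p) {c : Γ} (hcU : c ∈ U) (hcS : c ∈ centralizer (S : Set Γ)) : c ∈ DD T U := by
  haveI := h.DD_normal
  set π := QuotientGroup.mk' (DD T U) with hπ
  refine (QuotientGroup.eq_one_iff _).1 (cent_U_mod (h := h) (mem_map_of_mem π hcU) ?_)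
  rw [← h.pq.sup_Q hS hc, Subgroup.map_sup, mem_centralizer_iff]
  intro z hz
  have h1 : S.map π ⊔ Q.map π ≤ centralizer ({π c} : Set (Γ ⧸ DD T U)) := by
    refine sup_le ?_ ?_
    · rintro _ ⟨s, hs, rfl⟩
      rw [mem_centralizer_singleton_iff, ← map_mul, ← map_mul, mem_centralizer_iff.1 hcS s hs]
    · rintro _ ⟨y, hy, rfl⟩
      rw [mem_centralizer_singleton_iff, eq_comm, ← commutatorElement_eq_one_iff_mul_comm, ← map_commutatorElement]
      exact (QuotientGroup.eq_one_iff _).2 (hQ (commutator_mem_commutator hcU hy))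
  exact mem_centralizer_singleton_iff.1 (h1 hz)

/-- Case one: `Q` has no fixed points on `T` modulo the Frattini subgroup. -/
theorem CQ_le (h : Cfg A Q T U p q t u) (hQ : ⁅U, Q⁆ ≤ DD T U) : T ⊓ centralizer (Q : Set Γ) ≤ Phi T := by
  set C := T ⊓ centralizer (Q : Set Γ) with hC
  have hmk : ∀ L : Subgroup Γ, (∀ g ∈ L, ∀ x ∈ C, g * x * g⁻¹ ∈ C) → L ≤ normalizer (C : Set Γ) := fun L hL g hg => by
    rw [mem_normalizer_iff_map_conj_eq]
    refine eq_of_le_of_card_ge ?_ (card_map_of_injective (MulAut.conj g).injective).ge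
    rintro _ ⟨x, hx, rfl⟩
    exact hL g hg x hx
  have hAC : A ≤ normalizer (C : Set Γ) := hmk A fun g hg x hx => by
    refine ⟨Cfsg.Lib.Coprime.conj_mem_of_mem_normalizer (h.AT hg) hx.1, mem_centralizer_iff.2 fun y hy => ?_⟩
    have hy' : g⁻¹ * y * g ∈ Q := by
      simpa using Cfsg.Lib.Coprime.conj_mem_of_mem_normalizer (inv_mem (h.pq.qnorm hg)) hy
    calc y * (g * x * g⁻¹) = g * ((g⁻¹ * y * g) * x) * g⁻¹ := by group
      _ = g * (x * (g⁻¹ * y * g)) * g⁻¹ := by rw [mem_centralizer_iff.1 hx.2 _ hy']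
      _ = _ := by group
  have hUC : U ≤ normalizer (C : Set Γ) := hmk U fun g hg x hx => by
    refine ⟨Cfsg.Lib.Coprime.conj_mem_of_mem_normalizer (h.UT hg) hx.1, mem_centralizer_iff.2 fun y hy => ?_⟩
    have hd : ⁅g⁻¹, y⁆ ∈ DD T U := hQ (commutator_mem_commutator (inv_mem hg) hy)
    have hdx : ⁅g⁻¹, y⁆ * x = x * ⁅g⁻¹, y⁆ := (mem_centralizer_iff.1 hd.2 x hx.1).symm
    have hyx : y * x = x * y := mem_centralizer_iff.1 hx.2 y hy
    have e : y * g = g * (⁅g⁻¹, y⁆ * y) := by rw [commutatorElement_def]; group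
    refine mul_right_cancel (b := g) ?_
    calc y * (g * x * g⁻¹) * g = (y * g) * x := by group
      _ = g * (⁅g⁻¹, y⁆ * (y * x)) := by rw [e]; group
      _ = g * (⁅g⁻¹, y⁆ * x * y) := by rw [hyx]; group
      _ = g * x * (⁅g⁻¹, y⁆ * y) := by rw [hdx]; group
      _ = g * x * g⁻¹ * (y * g) := by rw [e]; group
      _ = _ := by group
  rcases eq_or_ne C T with e | hne
  · exfalso
    obtain ⟨P, hPA, hPc⟩ : ∃ P ≤ A, Nat.card P = p := by
      haveI := Fact.mk h.pq.pprime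
      obtain ⟨x, hx⟩ := exists_prime_orderOf_dvd_card' (G := A) p (h.pq.card ▸ dvd_mul_right p q)
      exact ⟨zpowers (x : Γ), zpowers_le.2 x.2, by rw [Nat.card_zpowers, orderOf_coe, hx]⟩
    have hTQ : T ≤ centralizer (Q : Set Γ) := e ▸ inf_le_right
    obtain ⟨s, hs⟩ : ∃ s : Γ, zpowers s = P := by
      haveI := Fact.mk h.pq.pprime
      haveI : IsCyclic P := isCyclic_of_prime_card hPc
      exact P.isCyclic_iff_exists_zpowers_eq_top.1 this
    have hsP : s ∈ P := hs ▸ mem_zpowers s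
    have hsp : s ^ p = 1 := by
      rw [← hPc, ← hs, Nat.card_zpowers]; exact pow_orderOf_eq_one s
    haveI := h.DD_normal
    set π := QuotientGroup.mk' (DD T U) with hπ
    set W := (T ⊔ U).map π with hW
    have hsN : π s ∈ normalizer (W : Set (Γ ⧸ DD T U)) := by
      refine le_normalizer_map π (mem_map_of_mem π ?_)
      rw [mem_normalizer_iff_map_conj_eq, Subgroup.map_sup,
        mem_normalizer_iff_map_conj_eq.1 (h.AT (hPA hsP)), mem_normalizer_iff_map_conj_eq.1 (h.AU (hPA hsP))]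
    let φ : MulAut W := W.normalizerMonoidHom ⟨π s, hsN⟩
    have hφ : ∀ w : W, (φ w : Γ ⧸ DD T U) = π s * w * (π s)⁻¹ := fun w => rfl
    have hφp : φ^[p] = id := by
      funext w
      refine Subtype.ext ?_
      have key : ∀ n : ℕ, ((φ^[n] w : W) : Γ ⧸ DD T U) = π (s ^ n) * w * (π (s ^ n))⁻¹ := by
        intro n
        induction n with
        | zero => simp
        | succ n ih => rw [Function.iterate_succ_apply', hφ, ih, pow_succ', map_mul]; group
      rw [key, hsp, map_one, one_mul, inv_one, mul_one]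
      rfl
    have hfpf : MonoidHom.FixedPointFree φ := by
      intro w hw
      refine Subtype.ext ?_
      have hsolTU : Group.IsSolvable ↥P ∨ Group.IsSolvable ↥(T ⊔ U) := by
        left
        haveI := Fact.mk h.pq.pprime
        haveI : IsCyclic P := isCyclic_of_prime_card hPc
        haveI : IsMulCommutative P := IsCyclic.commutative
        exact Cfsg.Lib.Core.isSolvable_of_isMulCommutative _
      have hdTU : Disjoint T U := Cfsg.Lib.Coprime.disjoint_of_coprime_card h.cop_TU.symm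
      have hcop : (Nat.card P).Coprime (Nat.card ↥(T ⊔ U)) := by
        rw [Cfsg.Lib.Coprime.card_sup_of_disjoint h.UT hdTU]
        exact Nat.Coprime.mul_right (h.cop_T.coprime_dvd_left (card_dvd_of_le hPA))
          (h.cop_U.coprime_dvd_left (card_dvd_of_le hPA))
      have hPN : P ≤ normalizer ((T ⊔ U : Subgroup Γ) : Set Γ) := fun g hg => by
        rw [mem_normalizer_iff_map_conj_eq, Subgroup.map_sup,
          mem_normalizer_iff_map_conj_eq.1 (h.AT (hPA hg)), mem_normalizer_iff_map_conj_eq.1 (h.AU (hPA hg))]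
      have h1 : (w : Γ ⧸ DD T U) ∈ W ⊓ centralizer ((P.map π : Subgroup _) : Set (Γ ⧸ DD T U)) := by
        refine ⟨w.2, mem_centralizer_iff.2 ?_⟩
        rintro _ ⟨z, hz, rfl⟩
        rw [← hs] at hz
        obtain ⟨k, rfl⟩ := mem_zpowers_iff.1 hz
        have : Commute (π s) (w : Γ ⧸ DD T U) := by
          have e1 := congrArg Subtype.val hw
          rw [hφ] at e1
          exact mul_inv_eq_iff_eq_mul.1 e1
        rw [map_zpow]
        exact (this.zpow_left k).eq
      rw [← Cfsg.Lib.Coprime.map_inf_centralizer_eq π hPN hcop hsolTU] at h1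
      obtain ⟨x, ⟨hx, hxP⟩, hxw⟩ := h1
      obtain ⟨a, ha, b, hb, rfl⟩ := Cfsg.Lib.Coprime.exists_mul_of_mem_sup h.UT hx
      have hfix : ∀ z ∈ P, z * a = a * z ∧ z * b = b * z := fun z hz => by
        obtain ⟨e1, e2⟩ := Cfsg.Lib.Coprime.eq_of_mul_eq_mul_of_disjoint hdTU
          (Cfsg.Lib.Coprime.conj_mem_of_mem_normalizer (h.AT (hPA hz)) ha) ha
          (Cfsg.Lib.Coprime.conj_mem_of_mem_normalizer (h.AU (hPA hz)) hb) hb
          (show z * a * z⁻¹ * (z * b * z⁻¹) = a * b by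
            rw [show z * a * z⁻¹ * (z * b * z⁻¹) = z * (a * b) * z⁻¹ by group, mem_centralizer_iff.1 hxP z hz,
              mul_inv_cancel_right])
        exact ⟨mul_inv_eq_iff_eq_mul.1 e1, mul_inv_eq_iff_eq_mul.1 e2⟩
      have ha1 : a = 1 := by
        refine mem_bot.1 (h.cT ▸ ⟨ha, ?_⟩)
        rw [← h.pq.sup_Q hPA hPc]
        refine mem_centralizer_iff.2 fun z hz => ?_
        have hle : P ⊔ Q ≤ centralizer ({a} : Set Γ) := sup_le
          (fun z hz => mem_centralizer_singleton_iff.2 (hfix z hz).1)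
          (fun z hz => mem_centralizer_singleton_iff.2 (mem_centralizer_iff.1 (hTQ ha) z hz))
        exact mem_centralizer_singleton_iff.1 (hle hz)
      rw [← hxw, ha1, one_mul]
      exact (QuotientGroup.eq_one_iff _).2 (h.fix_U_le hQ hPA hPc hb
        (mem_centralizer_iff.2 fun z hz => (hfix z hz).2))
    haveI := Cfsg.Lib.Thompson.isNilpotent_of_fpf h.pq.pprime φ hfpf hφp
    refine h.Tne ?_
    rw [← h.TU_eq, eq_bot_iff]
    refine commutator_le.2 fun a ha b hb => ?_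
    have haW : π a ∈ W := mem_map_of_mem π (mem_sup_left ha)
    have hbW : π b ∈ W := mem_map_of_mem π (mem_sup_right hb)
    have hcm := Cfsg.Lib.PGroup.commute_of_coprime_orderOf (⟨π a, haW⟩ : W) ⟨π b, hbW⟩ (by
      rw [← orderOf_coe, ← orderOf_coe]
      haveI := Fact.mk h.uprime
      haveI := Fact.mk h.tprime
      refine ((h.cop_TU.symm.coprime_dvd_left ?_).coprime_dvd_right ?_)
      · exact (orderOf_map_dvd π a).trans (Nat.card_zpowers a ▸ card_dvd_of_le (zpowers_le.2 ha))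
      · exact (orderOf_map_dvd π b).trans (Nat.card_zpowers b ▸ card_dvd_of_le (zpowers_le.2 hb)))
    have h2 : ⁅a, b⁆ ∈ DD T U := (QuotientGroup.eq_one_iff _).1 (by
      show π ⁅a, b⁆ = 1
      rw [map_commutatorElement, commutatorElement_eq_one_iff_mul_comm]
      exact congrArg Subtype.val hcm.eq)
    have h3 : ⁅a, b⁆ ∈ T := h.TU_eq ▸ commutator_mem_commutator ha hb
    exact Subgroup.disjoint_def.1 (Cfsg.Lib.Coprime.disjoint_of_coprime_card h.cop_TU.symm) h3 h2.1
  · have h1 := h.Tmin C (lt_of_le_of_ne inf_le_left hne) hUC hAC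
    exact (le_inf inf_le_left (commutator_eq_bot_iff'.1 h1)).trans h.T_inf_CU

/-- A subgroup of order `p`, or `Q`, and its commutator with `U` have only Frattini fixed points on `T`. -/
theorem fix_le (h : Cfg A Q T U p q t u) {S : Subgroup Γ} (hS : S ≤ A) (hSp : (Nat.card S).Prime) :
    T ⊓ centralizer ((⁅U, S⁆ : Subgroup Γ) : Set Γ) ⊓ centralizer (S : Set Γ) ≤ Phi T := by
  haveI := h.DD_normal
  haveI := h.Phi_normal
  haveI := h.T_normal
  set K := ⁅U, S⁆ with hK
  have hKU : K ≤ U := Cfsg.Lib.Coprime.commutator_le_of_le_normalizer (hS.trans h.AU)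
  have hcent : ∀ x ∈ T, x ∈ centralizer (K : Set Γ) → (∀ g ∈ U, ∃ k ∈ K, ∃ d ∈ DD T U, g = k * d) →
      x ∈ Phi T := fun x hx hxK hgen => h.T_inf_CU ⟨hx, mem_centralizer_iff.2 fun g hg => by
    obtain ⟨k, hk, d, hd, rfl⟩ := hgen g hg
    rw [mul_assoc, ← mem_centralizer_iff.1 hd.2 x hx, ← mul_assoc, mem_centralizer_iff.1 hxK k hk, mul_assoc]⟩
  rcases h.QU_cases with hQ | hQ
  swap
  · rcases h.pq.card_prime_cases hS hSp with hc | hc
    · intro x hx
      refine hcent x hx.1.1 hx.1.2 fun g hg => ?_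
      obtain ⟨n, hn, c, hc', rfl⟩ := Cfsg.Lib.Coprime.le_commutator_sup_centralizer (hS.trans h.AU)
        (h.cop_U.coprime_dvd_left (card_dvd_of_le hS)) (Or.inr h.isSolvable_U) hg
      exact ⟨n, hn, c, h.fix_U_le hQ hS hc hc'.1 hc'.2, rfl⟩
    · rw [h.pq.eq_Q_of_card hS hc]
      exact fun x hx => h.CQ_le hQ ⟨hx.1.1, hx.2⟩
  rcases h.pq.card_prime_cases hS hSp with hc | hc
  swap
  · intro x hx
    refine hcent x hx.1.1 hx.1.2 fun g hg => ⟨g, ?_, 1, one_mem _, (mul_one g).symm⟩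
    rw [hK, h.pq.eq_Q_of_card hS hc, hQ]; exact hg
  -- `S` of order `p`, `Q` fixed-point-free on `U` modulo `DD`
  set π := QuotientGroup.mk' (DD T U) with hπ
  haveI := h.mulComm_U
  -- conjugates
  have hKgen : ∀ x ∈ Q, x ≠ 1 →
      U.map π ≤ K.map π ⊔ (K.map (MulAut.conj x).toMonoidHom).map π := by
    intro x hx hx1
    set S' := S.map (MulAut.conj x).toMonoidHom with hS'
    have hxA : x ∈ A := h.pq.qle hx
    have hS'A : S' ≤ A := by
      rintro _ ⟨z, hz, rfl⟩
      exact mul_mem (mul_mem hxA (hS hz)) (inv_mem hxA)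
    have hS'c : Nat.card S' = p := by rw [hS', card_map_of_injective (MulAut.conj x).injective, hc]
    have hsup := h.pq.sup_eq hS hS'A hSp (hS'c ▸ h.pq.pprime) (h.pq.conj_ne hS hc hx hx1).symm
    have hK' : K.map (MulAut.conj x).toMonoidHom = ⁅U, S'⁆ := by
      have e : U.map (MulAut.conj x).toMonoidHom = U := mem_normalizer_iff_map_conj_eq.1 (h.AU hxA)
      rw [hK, map_commutator, e]
    rw [hK']
    set W := K.map π ⊔ (⁅U, S'⁆).map π with hW
    have hWU : W ≤ U.map π := sup_le (map_mono hKU)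
      (map_mono (Cfsg.Lib.Coprime.commutator_le_of_le_normalizer (hS'A.trans h.AU)))
    have hcomm : ∀ R : Subgroup Γ, ∀ w ∈ U.map π, ∀ z ∈ R.map π, ⁅w, z⁆ ∈ (⁅U, R⁆).map π := by
      intro R w hw z hz
      rw [map_commutator]
      exact commutator_mem_commutator hw hz
    -- both factors normalise `W`
    have hN : ∀ R : Subgroup Γ, (⁅U, R⁆).map π ≤ W → R.map π ≤ normalizer (W : Set (Γ ⧸ DD T U)) := by
      intro R hR z hz
      rw [mem_normalizer_iff_map_conj_eq]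
      refine eq_of_le_of_card_ge ?_ (card_map_of_injective (MulAut.conj z).injective).ge
      rintro _ ⟨w, hw, rfl⟩
      show z * w * z⁻¹ ∈ W
      rw [show z * w * z⁻¹ = ⁅w, z⁆⁻¹ * w by rw [commutatorElement_def]; group]
      exact mul_mem (inv_mem (hR (hcomm R w (hWU hw) z hz))) hw
    have hAN : A.map π ≤ normalizer (W : Set (Γ ⧸ DD T U)) := by
      rw [← hsup, Subgroup.map_sup]
      exact sup_le (hN S le_sup_left) (hN S' le_sup_right)
    intro w hw
    let B : Subgroup (Γ ⧸ DD T U) :=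
      { carrier := {a | a ∈ normalizer (W : Set (Γ ⧸ DD T U)) ∧ ⁅w, a⁆ ∈ W}
        one_mem' := ⟨one_mem _, by rw [commutatorElement_one_right]; exact one_mem _⟩
        mul_mem' := fun {a b} ha hb => ⟨mul_mem ha.1 hb.1, by
          rw [show ⁅w, a * b⁆ = ⁅w, a⁆ * (a * ⁅w, b⁆ * a⁻¹) by simp only [commutatorElement_def]; group]
          exact mul_mem ha.2 (Cfsg.Lib.Coprime.conj_mem_of_mem_normalizer ha.1 hb.2)⟩
        inv_mem' := fun {a} ha => ⟨inv_mem ha.1, by
          rw [show ⁅w, a⁻¹⁆ = a⁻¹ * ⁅w, a⁆⁻¹ * a⁻¹⁻¹ by simp only [commutatorElement_def]; group]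
          exact Cfsg.Lib.Coprime.conj_mem_of_mem_normalizer (inv_mem ha.1) (inv_mem ha.2)⟩ }
    have hAB : A.map π ≤ B := by
      rw [← hsup, Subgroup.map_sup]
      exact sup_le
        (fun z hz => ⟨hN S le_sup_left hz, le_sup_left (α := Subgroup (Γ ⧸ DD T U)) (hcomm S w hw z hz)⟩)
        (fun z hz => ⟨hN S' le_sup_right hz, le_sup_right (α := Subgroup (Γ ⧸ DD T U)) (hcomm S' w hw z hz)⟩)
    obtain ⟨n, hn, c, hc', hwc⟩ := Cfsg.Lib.Coprime.exists_mul_centralizer_of_commutator_mem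
      (A := A.map π) (G := U.map π) ((map_mono h.AU).trans (le_normalizer_map π))
      ((h.cop_U.coprime_dvd_left (card_map_dvd _ _)).coprime_dvd_right (card_map_dvd _ _))
      (Or.inr (Cfsg.Lib.Core.isSolvable_of_isMulCommutative _)) hWU hAN hw (fun a ha => (hAB ha).2)
    rw [hwc, cent_U_mod (h := h) hc'.1 hc'.2, mul_one]
    exact hn
  -- modulo the Frattini subgroup
  set σ := QuotientGroup.mk' (Phi T) with hσ
  set M := T.map σ with hM
  haveI hMc : IsMulCommutative M := ⟨⟨fun a b => by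
    obtain ⟨x, hx, hxa⟩ := a.2
    obtain ⟨y, hy, hyb⟩ := b.2
    refine Subtype.ext ?_
    show (a : Γ ⧸ Phi T) * b = b * a
    rw [← hxa, ← hyb, ← commutatorElement_eq_one_iff_mul_comm, ← map_commutatorElement]
    exact (QuotientGroup.eq_one_iff _).2 (h.comm_mem_Phi hx hy)⟩⟩
  letI : CommGroup M := { (inferInstance : Group M) with mul_comm := fun a b => hMc.is_comm.comm a b }
  intro x hx
  obtain ⟨⟨hxT, hxK⟩, hxS⟩ := hx
  have hQT : ∀ y ∈ Q, ∀ z ∈ T, y * z * y⁻¹ ∈ T := fun y hy z hz =>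
    Cfsg.Lib.Coprime.conj_mem_of_mem_normalizer (h.AT (h.pq.qle hy)) hz
  let f : Q → M := fun y => ⟨σ (y * x * (y : Γ)⁻¹), mem_map_of_mem σ (hQT y y.2 x hxT)⟩
  haveI := Fintype.ofFinite Q
  have hnormM : ∀ g : Γ, g ∈ normalizer (T : Set Γ) → σ g ∈ normalizer (M : Set (Γ ⧸ Phi T)) := fun g hg =>
    le_normalizer_map σ (mem_map_of_mem σ hg)
  -- the product is fixed by `A`
  have hprod : ∏ y, f y = 1 := by
    set P0 := ∏ y, f y with hP0
    have hconj : ∀ a ∈ A, ∀ e : Q ≃ Q, (∀ y : Q, σ (a * (y * x * (y : Γ)⁻¹) * a⁻¹) = (f (e y) : Γ ⧸ Phi T)) →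
        σ a * (P0 : Γ ⧸ Phi T) * (σ a)⁻¹ = P0 := by
      intro a ha e he
      let c : M →* M := (M.normalizerMonoidHom ⟨σ a, hnormM a (h.AT ha)⟩).toMonoidHom
      have hcv : ∀ m : M, ((c m : M) : Γ ⧸ Phi T) = σ a * m * (σ a)⁻¹ := fun m => rfl
      rw [← hcv, hP0, map_prod]
      refine congrArg Subtype.val (Fintype.prod_equiv e _ _ fun y => Subtype.ext ?_)
      rw [hcv, ← he y]
      show _ = σ _
      rw [map_mul _ _ a⁻¹, map_mul, map_inv]
    have hfixQ : ∀ a ∈ Q, σ a * (P0 : Γ ⧸ Phi T) * (σ a)⁻¹ = P0 := fun a ha =>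
      hconj a (h.pq.qle ha) (Equiv.mulLeft ⟨a, ha⟩) fun y => by
        show σ _ = σ _
        congr 1
        simp only [Equiv.coe_mulLeft, Subgroup.coe_mul]; group
    have hfixS : ∀ a ∈ S, σ a * (P0 : Γ ⧸ Phi T) * (σ a)⁻¹ = P0 := fun a ha =>
      hconj a (hS ha) (Q.normalizerMonoidHom ⟨a, h.pq.qnorm (hS ha)⟩).toEquiv fun y => by
        show σ _ = σ (a * (y : Γ) * a⁻¹ * x * (a * (y : Γ) * a⁻¹)⁻¹)
        congr 1
        have hax : a * x = x * a := (mem_centralizer_iff.1 hxS a ha)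
        calc a * (↑y * x * (↑y)⁻¹) * a⁻¹ = a * ↑y * a⁻¹ * (a * x) * (↑y)⁻¹ * a⁻¹ := by group
          _ = a * ↑y * a⁻¹ * (x * a) * (↑y)⁻¹ * a⁻¹ := by rw [hax]
          _ = _ := by group
    refine Subtype.ext (mem_bot.1 ?_)
    have := Cfsg.Lib.Coprime.map_inf_centralizer_eq σ h.AT h.cop_T (Or.inr h.isSolvable_T)
    rw [h.cT, Subgroup.map_bot] at this
    rw [this]
    refine ⟨P0.2, ?_⟩
    rw [← h.pq.sup_Q hS hc, Subgroup.map_sup]
    refine mem_centralizer_iff.2 fun z hz => ?_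
    have hle : S.map σ ⊔ Q.map σ ≤ centralizer ({(P0 : Γ ⧸ Phi T)} : Set (Γ ⧸ Phi T)) := by
      refine sup_le ?_ ?_
      · rintro _ ⟨a, ha, rfl⟩
        exact mem_centralizer_singleton_iff.2 (mul_inv_eq_iff_eq_mul.1 (hfixS a ha))
      · rintro _ ⟨a, ha, rfl⟩
        exact mem_centralizer_singleton_iff.2 (mul_inv_eq_iff_eq_mul.1 (hfixQ a ha))
    exact mem_centralizer_singleton_iff.1 (hle hz)
  -- coprime splitting of `M` under `K`
  have hKN : K.map σ ≤ normalizer (M : Set (Γ ⧸ Phi T)) := (map_mono (hKU.trans h.UT)).trans (le_normalizer_map σ)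
  have hKcop : (Nat.card (K.map σ)).Coprime (Nat.card M) :=
    ((h.cop_TU.coprime_dvd_left (card_dvd_of_le hKU)).coprime_dvd_left (card_map_dvd _ _)).coprime_dvd_right
      (card_map_dvd _ _)
  have hd := Cfsg.Lib.Coprime.disjoint_commutator_centralizer (G := M) (A := K.map σ) hKN hKcop
  let N : Subgroup M := (⁅M, K.map σ⁆).subgroupOf M
  have hmem : ∀ y : Q, (y : Γ) ≠ 1 → f y ∈ N := by
    intro y hy
    rw [mem_subgroupOf]
    obtain ⟨n, hn, c, hc', hfc⟩ := Cfsg.Lib.Coprime.le_commutator_sup_centralizer hKN hKcop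
      (Or.inr (Cfsg.Lib.Core.isSolvable_of_isMulCommutative _)) (f y).2
    set K' := K.map (MulAut.conj (y : Γ)).toMonoidHom with hK'
    have hK'U : K' ≤ U := by
      rw [hK', ← mem_normalizer_iff_map_conj_eq.1 (h.AU (h.pq.qle y.2))]
      exact map_mono hKU
    -- `c` is fixed by the conjugate of `K`
    have hck : ∀ k ∈ K', Commute (σ k) c := by
      intro k hk
      have hkn : σ k ∈ normalizer ((K.map σ : Subgroup _) : Set (Γ ⧸ Phi T)) :=
        le_normalizer_map σ (mem_map_of_mem σ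
          (le_normalizer_commutator_left' U S (hK'U hk)))
      have hkM : σ k ∈ normalizer (M : Set (Γ ⧸ Phi T)) := hnormM k (h.UT (hK'U hk))
      have hfk : σ k * (f y : Γ ⧸ Phi T) * (σ k)⁻¹ = f y := by
        obtain ⟨k0, hk0, hk0e⟩ := hk
        have hk0x : k0 * x = x * k0 := mem_centralizer_iff.1 hxK k0 hk0
        have hk0e' : k = y * k0 * (y : Γ)⁻¹ := hk0e.symm
        show σ k * σ (y * x * (y : Γ)⁻¹) * (σ k)⁻¹ = σ (y * x * (y : Γ)⁻¹)
        rw [← map_inv, ← map_mul, ← map_mul, hk0e']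
        congr 1
        calc (y : Γ) * k0 * (y : Γ)⁻¹ * (y * x * (y : Γ)⁻¹) * (y * k0 * (y : Γ)⁻¹)⁻¹ =
              y * (k0 * x) * k0⁻¹ * (y : Γ)⁻¹ := by group
          _ = y * (x * k0) * k0⁻¹ * (y : Γ)⁻¹ := by rw [hk0x]
          _ = _ := by group
      have hnk : σ k * n * (σ k)⁻¹ ∈ ⁅M, K.map σ⁆ :=
        Cfsg.Lib.Coprime.conj_mem_of_mem_normalizer (le_normalizer_commutator_of (X := zpowers (σ k))
          (zpowers_le.2 hkM) (zpowers_le.2 hkn) (mem_zpowers _)) hn
      have hcc : σ k * c * (σ k)⁻¹ ∈ centralizer ((K.map σ : Subgroup _) : Set (Γ ⧸ Phi T)) := by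
        refine mem_centralizer_iff.2 fun z hz => ?_
        have hz' : (σ k)⁻¹ * z * σ k ∈ K.map σ := by
          simpa using Cfsg.Lib.Coprime.conj_mem_of_mem_normalizer (inv_mem hkn) hz
        calc z * (σ k * c * (σ k)⁻¹) = σ k * (((σ k)⁻¹ * z * σ k) * c) * (σ k)⁻¹ := by group
          _ = σ k * (c * ((σ k)⁻¹ * z * σ k)) * (σ k)⁻¹ := by rw [mem_centralizer_iff.1 hc'.2 _ hz']
          _ = _ := by group
      obtain ⟨-, e⟩ := Cfsg.Lib.Coprime.eq_of_mul_eq_mul_of_disjoint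
        (N := ⁅M, K.map σ⁆) (A := centralizer ((K.map σ : Subgroup _) : Set (Γ ⧸ Phi T))) hd hnk hn hcc hc'.2
        (show σ k * n * (σ k)⁻¹ * (σ k * c * (σ k)⁻¹) = n * c by
          rw [← hfc, ← hfk, hfc]; group)
      exact mul_inv_eq_iff_eq_mul.1 e
    have hc1 : c = 1 := by
      obtain ⟨c0, hc0, hc0c⟩ := hc'.1
      have hcU : c ∈ centralizer ((U.map σ : Subgroup _) : Set (Γ ⧸ Phi T)) := by
        rw [mem_centralizer_iff]
        rintro _ ⟨g, hg, rfl⟩
        have hg' := hKgen y y.2 hy (mem_map_of_mem π hg)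
        have hle : K.map π ⊔ K'.map π ≤ ((centralizer ({c} : Set (Γ ⧸ Phi T))).comap σ).map π := by
          refine sup_le (map_mono fun k hk => ?_) (map_mono fun k hk => ?_)
          · exact mem_centralizer_singleton_iff.2 (mem_centralizer_iff.1 hc'.2 _ (mem_map_of_mem σ hk))
          · exact mem_centralizer_singleton_iff.2 (hck k hk).eq
        obtain ⟨g', hg', hgg⟩ := hle hg'
        have hd' : g'⁻¹ * g ∈ DD T U := QuotientGroup.eq.1 hgg
        have e1 : σ g' * c = c * σ g' := mem_centralizer_singleton_iff.1 hg'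
        have e2 : σ (g'⁻¹ * g) * c = c * σ (g'⁻¹ * g) := by
          rw [← hc0c, ← map_mul, ← map_mul, mem_centralizer_iff.1 hd'.2 c0 hc0]
        rw [show g = g' * (g'⁻¹ * g) by group, map_mul, mul_assoc, e2, ← mul_assoc, e1, mul_assoc]
      have h1 : c ∈ (T ⊓ centralizer (U : Set Γ)).map σ := by
        rw [Cfsg.Lib.Coprime.map_inf_centralizer_eq σ h.UT h.cop_TU (Or.inl h.isSolvable_U)]
        exact ⟨hc'.1, hcU⟩
      obtain ⟨c1, hc1, rfl⟩ := h1
      exact (QuotientGroup.eq_one_iff _).2 (h.T_inf_CU hc1)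
    rw [hfc, hc1, mul_one]
    exact hn
  classical
  have hrest : f 1 ∈ N := by
    have hsplit := Finset.mul_prod_erase Finset.univ f (Finset.mem_univ (1 : Q))
    rw [hprod] at hsplit
    rw [eq_inv_of_mul_eq_one_left hsplit]
    refine inv_mem (prod_mem fun y hy => hmem y fun e => ?_)
    exact Finset.ne_of_mem_erase hy (Subtype.ext e)
  rw [mem_subgroupOf] at hrest
  have hx1 : σ x = 1 := by
    refine Subgroup.disjoint_def.1 hd ?_ ?_
    · simpa [f] using hrest
    · refine mem_centralizer_iff.2 ?_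
      rintro _ ⟨k, hk, rfl⟩
      rw [← map_mul, ← map_mul, mem_centralizer_iff.1 hxK k hk]
  exact (QuotientGroup.eq_one_iff _).1 hx1

end Cfg

end Cfsg.Lib.FitTwo
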