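import Cfsg.Agent.Lib.FitTwo.Pq
import Cfsg.Agent.Lib.Local.HallHigmanComponent
import Cfsg.Agent.Lib.Local.MovedBound

/-!
Characters of an abelian normal subgroup occurring in a module on which `A` of order `p q` has zero norm:
their stabilisers in `A`.
-/

set_option autoImplicit false

namespace Cfsg.Lib.FitTwo

open Subgroup Cfsg.Lib.Local
open scoped commutatorElement

variable {Γ : Type*} [Group Γ] {F : Type*} [Field F] {V : Type*} [AddCommGroup V] [Module F V]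
  {ρ : Γ →* Module.End F V} {B : Subgroup Γ} {ψ : Γ → F}

/-- The elements fixing a function on a normalised subgroup. -/
def fixer (B : Subgroup Γ) (ψ : Γ → F) : Subgroup Γ where
  carrier := {g | g ∈ normalizer (B : Set Γ) ∧ ∀ x ∈ B, ψ (g * x * g⁻¹) = ψ x}
  one_mem' := ⟨one_mem _, fun x _ => by simp⟩
  mul_mem' := fun {g g'} hg hg' => ⟨mul_mem hg.1 hg'.1, fun x hx => by
    rw [show g * g' * x * (g * g')⁻¹ = g * (g' * x * g'⁻¹) * g⁻¹ by group,
      hg.2 _ (Cfsg.Lib.Coprime.conj_mem_of_mem_normalizer hg'.1 hx), hg'.2 x hx]⟩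
  inv_mem' := fun {g} hg => ⟨inv_mem hg.1, fun x hx => by
    have h1 := hg.2 _ (Cfsg.Lib.Coprime.conj_mem_of_mem_normalizer (inv_mem hg.1) hx)
    rw [← h1]
    congr 1
    group⟩

theorem mem_fixer {g : Γ} :
    g ∈ fixer B ψ ↔ g ∈ normalizer (B : Set Γ) ∧ ∀ x ∈ B, ψ (g * x * g⁻¹) = ψ x := Iff.rfl

/-- The conjugate of a function. -/
def translate (u : Γ) (ψ : Γ → F) : Γ → F := fun x => ψ (u⁻¹ * x * u)

variable [Finite Γ]

theorem eigen_translate {u : Γ} (hu : u ∈ normalizer (B : Set Γ)) {v : V} (hv : v ∈ eigenOf ρ B ψ) :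
    ρ u v ∈ eigenOf ρ B (translate u ψ) := mem_eigenOf.2 fun a ha => by
  have h1 : u⁻¹ * a * u ∈ B := by
    simpa using Cfsg.Lib.Coprime.conj_mem_of_mem_normalizer (inv_mem hu) ha
  rw [← ρ_mul_apply, show a * u = u * (u⁻¹ * a * u) by group, ρ_mul_apply, mem_eigenOf.1 hv _ h1, map_smul]
  rfl

theorem eigen_translate_ne_bot {u : Γ} (hu : u ∈ normalizer (B : Set Γ)) (h : eigenOf ρ B ψ ≠ ⊥) :
    eigenOf ρ B (translate u ψ) ≠ ⊥ := by
  obtain ⟨v, hv, hv0⟩ := Submodule.exists_mem_ne_zero_of_ne_bot h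
  exact fun e => ρ_ne_zero ρ u hv0 ((Submodule.eq_bot_iff _).1 e _ (eigen_translate hu hv))

theorem fixer_maps {g : Γ} (hg : g ∈ fixer B ψ) {v : V} (hv : v ∈ eigenOf ρ B ψ) : ρ g v ∈ eigenOf ρ B ψ := by
  refine mem_eigenOf.2 fun a ha => ?_
  rw [mem_eigenOf.1 (eigen_translate hg.1 hv) a ha]
  congr 1
  have h1 : g⁻¹ * a * g ∈ B := by
    simpa using Cfsg.Lib.Coprime.conj_mem_of_mem_normalizer (inv_mem hg.1) ha
  show ψ (g⁻¹ * a * g) = ψ a
  rw [← hg.2 _ h1]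
  congr 1
  group

theorem mem_fixer_translate {u g : Γ} (hu : u ∈ normalizer (B : Set Γ)) :
    g ∈ fixer B (translate u ψ) ↔ u⁻¹ * g * u ∈ fixer B ψ := by
  constructor
  · intro hg
    refine ⟨mul_mem (mul_mem (inv_mem hu) hg.1) hu, fun x hx => ?_⟩
    have h1 : ψ (u⁻¹ * (g * (u * x * u⁻¹) * g⁻¹) * u) = ψ (u⁻¹ * (u * x * u⁻¹) * u) :=
      hg.2 _ (Cfsg.Lib.Coprime.conj_mem_of_mem_normalizer hu hx)
    rw [show u⁻¹ * (u * x * u⁻¹) * u = x by group] at h1
    rw [← h1]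
    congr 1
    group
  · intro hg
    refine ⟨?_, fun x hx => ?_⟩
    · have := mul_mem (mul_mem hu hg.1) (inv_mem hu)
      rwa [show u * (u⁻¹ * g * u) * u⁻¹ = g by group] at this
    · have h1 : u⁻¹ * x * u ∈ B := by
        simpa using Cfsg.Lib.Coprime.conj_mem_of_mem_normalizer (inv_mem hu) hx
      show ψ (u⁻¹ * (g * x * g⁻¹) * u) = ψ (u⁻¹ * x * u)
      rw [← hg.2 _ h1]
      congr 1
      group

/-- A character not trivial at a given element occurs. -/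
theorem exists_eigen [IsAlgClosed F] [FiniteDimensional F V] (hab : ∀ a ∈ B, ∀ b ∈ B, a * b = b * a) {z : Γ}
    (hz : z ∈ B) {t : ℕ} (hzt : z ^ t = 1) (htF : (t : F) ≠ 0) (hρz : ρ z ≠ 1) :
    ∃ ψ : Γ → F, eigenOf ρ B ψ ≠ ⊥ ∧ ψ z ≠ 1 := by
  let U0 : Submodule F V := LinearMap.ker (∑ i ∈ Finset.range t, ρ (z ^ i))
  have hne : U0 ≠ ⊥ := by
    obtain ⟨v, hv⟩ : ∃ v : V, ρ z v ≠ v := by
      by_contra hcon
      push Not at hcon
      exact hρz (LinearMap.ext fun v => hcon v)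
    refine fun e => hv (sub_eq_zero.1 ?_)
    have hmem : ρ z v - v ∈ U0 := by
      simp only [U0, LinearMap.mem_ker, LinearMap.sum_apply, map_sub, Finset.sum_sub_distrib,
        ← ρ_mul_apply, ← pow_succ]
      rw [← Finset.sum_sub_distrib, Finset.sum_range_sub (fun i => ρ (z ^ i) v), hzt, pow_zero, sub_self]
    rwa [e, Submodule.mem_bot] at hmem
  have hinv : ∀ c ∈ B, ∀ v ∈ U0, ρ c v ∈ U0 := by
    intro c hc v hv
    simp only [U0, LinearMap.mem_ker, LinearMap.sum_apply] at hv ⊢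
    calc ∑ i ∈ Finset.range t, ρ (z ^ i) (ρ c v) = ∑ i ∈ Finset.range t, ρ c (ρ (z ^ i) v) :=
          Finset.sum_congr rfl fun i _ => by
            rw [← ρ_mul_apply, ← ρ_mul_apply, hab _ (pow_mem hz i) c hc]
      _ = 0 := by rw [← map_sum, hv, map_zero]
  obtain ⟨ψ, v, hvU, hv0, hv⟩ := exists_common_eigenvector ρ B hab U0 hne hinv
  refine ⟨ψ, fun e => hv0 ((Submodule.eq_bot_iff _).1 e v hv), fun e => hv0 ?_⟩
  have hpow : ∀ i : ℕ, ρ (z ^ i) v = v := by
    intro i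
    induction i with
    | zero => simp
    | succ i ih => rw [pow_succ, ρ_mul_apply, mem_eigenOf.1 hv z hz, e, one_smul, ih]
  simp only [U0, LinearMap.mem_ker, LinearMap.sum_apply] at hvU
  rw [Finset.sum_congr rfl fun i _ => hpow i, Finset.sum_const, Finset.card_range,
    ← Nat.cast_smul_eq_nsmul F] at hvU
  exact (smul_eq_zero.1 hvU).resolve_left htF

/-- A character fixed by a coprime group of operators without fixed points is trivial. -/
theorem trivial_of_fixed {L : Subgroup Γ} (hab : ∀ a ∈ B, ∀ b ∈ B, a * b = b * a) (hψ : eigenOf ρ B ψ ≠ ⊥)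
    (hgen : ⁅B, L⁆ = B) (hL : L ≤ fixer B ψ) : ∀ x ∈ B, ψ x = 1 := by
  let P : Subgroup Γ :=
    { carrier := {x | x ∈ B ∧ ψ x = 1}
      one_mem' := ⟨one_mem _, eigen_one hψ⟩
      mul_mem' := fun {x y} hx hy => ⟨mul_mem hx.1 hy.1, by rw [eigen_mul hψ hx.1 hy.1, hx.2, hy.2, one_mul]⟩
      inv_mem' := fun {x} hx => ⟨inv_mem hx.1, by rw [eigen_inv hψ hx.1, hx.2, inv_one]⟩ }
  have hle : ⁅B, L⁆ ≤ P := commutator_le.2 fun x hx g hg => by
    have hgf := hL hg
    have h1 : g * x⁻¹ * g⁻¹ ∈ B := Cfsg.Lib.Coprime.conj_mem_of_mem_normalizer hgf.1 (inv_mem hx)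
    have e : ⁅x, g⁆ = x * (g * x⁻¹ * g⁻¹) := by rw [commutatorElement_def]; group
    refine ⟨e ▸ mul_mem hx h1, ?_⟩
    rw [e, eigen_mul hψ hx h1, hgf.2 _ (inv_mem hx), eigen_inv hψ hx, mul_inv_cancel₀ (eigen_ne_zero hψ hx)]
  exact fun x hx => (hle (hgen.symm ▸ hx)).2

variable {A Q : Subgroup Γ} {p q : ℕ}

/-- The stabiliser of an occurring nontrivial character is of prime order, with zero norm. -/
theorem exists_stab (h : Pq A Q p q) (hAB : A ≤ normalizer (B : Set Γ))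
    (hcop : (Nat.card A).Coprime (Nat.card B)) (hC : B ⊓ centralizer (A : Set Γ) = ⊥)
    (hab : ∀ a ∈ B, ∀ b ∈ B, a * b = b * a) (hBF : (Nat.card B : F) ≠ 0) [Fintype A]
    (hN : ∑ a : A, ρ (a : Γ) = 0) (hψ : eigenOf ρ B ψ ≠ ⊥) (hne : ∃ x ∈ B, ψ x ≠ 1) :
    ∃ y ∈ A, y ≠ 1 ∧ y ∈ fixer B ψ ∧ (∀ a ∈ A, a ∈ fixer B ψ → a ∈ zpowers y) ∧
      ∀ v ∈ eigenOf ρ B ψ, ∑ i ∈ Finset.range (orderOf y), ρ (y ^ i) v = 0 := by
  classical
  haveI : IsMulCommutative B := ⟨⟨fun a b => Subtype.ext (hab _ a.2 _ b.2)⟩⟩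
  obtain ⟨x0, hx0, hx0ne⟩ := hne
  have hnA : ¬ A ≤ fixer B ψ := fun hle => hx0ne
    (trivial_of_fixed hab hψ (commutator_eq_self_of_inf_eq_bot hAB hcop hC) hle x0 hx0)
  obtain ⟨v0, hv0, hv00⟩ := Submodule.exists_mem_ne_zero_of_ne_bot hψ
  have hsep : ∀ a ∈ A, ∀ b ∈ A, (∀ x ∈ B, translate a ψ x = translate b ψ x) → b⁻¹ * a ∈ fixer B ψ := by
    intro a ha b hb heq
    refine ⟨mul_mem (inv_mem (hAB hb)) (hAB ha), fun x hx => ?_⟩
    have h1 := heq _ (Cfsg.Lib.Coprime.conj_mem_of_mem_normalizer (hAB ha) hx)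
    simp only [translate] at h1
    rw [show a⁻¹ * (a * x * a⁻¹) * a = x by group] at h1
    rw [h1]
    congr 1
    group
  -- some element fixes
  obtain ⟨y, hyA, hy1, hyF⟩ : ∃ y ∈ A, y ≠ 1 ∧ y ∈ fixer B ψ := by
    by_contra hcon
    push Not at hcon
    have h0 : ρ ((1 : A) : Γ) v0 = 0 := eigen_sum_eq_zero (A := B) hBF Finset.univ
      (fun a : A => translate (a : Γ) ψ) (fun a : A => ρ (a : Γ) v0)
      (fun a _ => eigen_translate (hAB a.2) hv0) (Finset.mem_univ 1)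
      (fun a _ ha1 => by
        by_contra hh
        push Not at hh
        have h2 := hsep a a.2 1 (one_mem _) (fun x hx => hh x hx)
        rw [inv_one, one_mul] at h2
        exact hcon a a.2 (fun e => ha1 (Subtype.ext e)) h2)
      (by
        have := congrArg (fun f : Module.End F V => f v0) hN
        simpa [LinearMap.sum_apply] using this)
    rw [OneMemClass.coe_one, map_one] at h0
    exact hv00 h0
  have hSle : zpowers y ≤ A := zpowers_le.2 hyA
  have hSprime := h.prime_zpowers hyA hy1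
  have hstab : ∀ a ∈ A, a ∈ fixer B ψ → a ∈ zpowers y := by
    intro a ha haF
    by_contra hnot
    have ha1 : a ≠ 1 := fun e => hnot (e ▸ one_mem _)
    have := h.sup_eq hSle (zpowers_le.2 ha) hSprime (h.prime_zpowers ha ha1)
      (fun e => hnot (e ▸ mem_zpowers a))
    exact hnA (this ▸ sup_le (zpowers_le.2 hyF) (zpowers_le.2 haF))
  refine ⟨y, hyA, hy1, hyF, hstab, fun v hv => ?_⟩
  set n := orderOf y with hn
  let S' : Subgroup A := (zpowers y).subgroupOf A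
  have hyS' : ∀ i : ℕ, (⟨y ^ i, pow_mem hyA i⟩ : A) ∈ S' := fun i =>
    mem_subgroupOf.2 (pow_mem (mem_zpowers y) i)
  let e : (A ⧸ S') × Fin n ≃ A := Equiv.ofBijective (fun ci => ci.1.out * ⟨y ^ (ci.2 : ℕ), pow_mem hyA _⟩)
    ⟨fun ⟨c, i⟩ ⟨d, j⟩ hcd => by
      have hc : c = d := by
        rw [← QuotientGroup.out_eq' c, ← QuotientGroup.out_eq' d, ← QuotientGroup.mk_mul_of_mem c.out (hyS' i),
          ← QuotientGroup.mk_mul_of_mem d.out (hyS' j)]
        exact congrArg _ hcd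
      subst hc
      have h2 := congrArg Subtype.val (mul_left_cancel hcd)
      exact Prod.ext rfl (Fin.ext (pow_injOn_Iio_orderOf (Set.mem_Iio.2 i.2) (Set.mem_Iio.2 j.2) h2)),
     fun a => by
      have h1 : ((QuotientGroup.mk a : A ⧸ S').out)⁻¹ * a ∈ S' :=
        QuotientGroup.eq.1 (QuotientGroup.out_eq' _)
      obtain ⟨k, hk⟩ := mem_powers_iff_mem_zpowers.2 (mem_subgroupOf.1 h1)
      refine ⟨(QuotientGroup.mk a, ⟨k % n, Nat.mod_lt _ (orderOf_pos y)⟩), ?_⟩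
      have h2 : (⟨y ^ (k % n), pow_mem hyA _⟩ : A) = ((QuotientGroup.mk a : A ⧸ S').out)⁻¹ * a :=
        Subtype.ext (by rw [← hk]; exact pow_mod_orderOf y k)
      simp only [h2, mul_inv_cancel_left]⟩
  haveI := Fintype.ofFinite (A ⧸ S')
  set w := ∑ i ∈ Finset.range n, ρ (y ^ i) v with hw
  have hwe : w ∈ eigenOf ρ B ψ :=
    Submodule.sum_mem _ fun i _ => fixer_maps (pow_mem hyF i) hv
  have hsum : ∑ c : A ⧸ S', ρ (c.out : Γ) w = 0 := by
    have := congrArg (fun f : Module.End F V => f v) hN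
    simp only [LinearMap.sum_apply, LinearMap.zero_apply] at this
    rw [← this, ← Equiv.sum_comp e, Fintype.sum_prod_type]
    refine Finset.sum_congr rfl fun c _ => ?_
    rw [hw, map_sum, Finset.sum_range]
    refine Finset.sum_congr rfl fun i _ => ?_
    rw [← ρ_mul_apply]
    rfl
  have h0 := eigen_sum_eq_zero (A := B) hBF Finset.univ (fun c : A ⧸ S' => translate (c.out : Γ) ψ)
    (fun c : A ⧸ S' => ρ (c.out : Γ) w) (fun c _ => eigen_translate (hAB c.out.2) hwe)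
    (Finset.mem_univ (QuotientGroup.mk (1 : A) : A ⧸ S')) (fun c _ hc => by
      by_contra hh
      push Not at hh
      have h2 := hstab _ (mul_mem (inv_mem (QuotientGroup.mk (1 : A) : A ⧸ S').out.2) c.out.2)
        (hsep _ c.out.2 _ (QuotientGroup.mk (1 : A) : A ⧸ S').out.2 fun x hx => hh x hx)
      refine hc ?_
      rw [← QuotientGroup.out_eq' c]
      conv_rhs => rw [← QuotientGroup.out_eq' (QuotientGroup.mk (1 : A) : A ⧸ S')]
      exact (QuotientGroup.eq.2 (mem_subgroupOf.2 h2)).symm) hsum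
  by_contra hw0
  exact ρ_ne_zero ρ _ hw0 h0

/-- An orbit fixed by `A` contains a character fixed by `A`. -/
theorem exists_fixed_translate (h : Pq A Q p q) {U : Subgroup Γ} (hAU : A ≤ normalizer (U : Set Γ))
    (hcop : (Nat.card A).Coprime (Nat.card U)) (hUB : U ≤ normalizer (B : Set Γ)) {S S' : Subgroup Γ}
    (hS : S ≤ A) (hS' : S' ≤ A) (hp1 : (Nat.card S).Prime) (hp2 : (Nat.card S').Prime) (hne : S ≠ S')
    (hSF : S ≤ fixer B ψ) {u : Γ} (hu : u ∈ U) (hS'F : S' ≤ fixer B (translate u ψ)) :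
    ∃ n ∈ U, A ≤ fixer B (translate n ψ) := by
  let A' : Subgroup Γ :=
    { carrier := {a | a ∈ A ∧ ∃ n ∈ U, n * a ∈ fixer B ψ}
      one_mem' := ⟨one_mem _, 1, one_mem _, by rw [mul_one]; exact one_mem _⟩
      mul_mem' := fun {a b} ha hb => by
        obtain ⟨n, hn, hna⟩ := ha.2
        obtain ⟨m, hm, hmb⟩ := hb.2
        refine ⟨mul_mem ha.1 hb.1, n * (a * m * a⁻¹),
          mul_mem hn (Cfsg.Lib.Coprime.conj_mem_of_mem_normalizer (hAU ha.1) hm), ?_⟩
        have := mul_mem hna hmb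
        rwa [show n * (a * m * a⁻¹) * (a * b) = n * a * (m * b) by group]
      inv_mem' := fun {a} ha => by
        obtain ⟨n, hn, hna⟩ := ha.2
        refine ⟨inv_mem ha.1, a⁻¹ * n⁻¹ * a, ?_, ?_⟩
        · simpa using Cfsg.Lib.Coprime.conj_mem_of_mem_normalizer (hAU (inv_mem ha.1)) (inv_mem hn)
        · rw [show a⁻¹ * n⁻¹ * a * a⁻¹ = (n * a)⁻¹ by group]
          exact inv_mem hna }
  have hA' : A ≤ A' := by
    rw [← h.sup_eq hS hS' hp1 hp2 hne]
    refine sup_le (fun a ha => ⟨hS ha, 1, one_mem _, by rw [one_mul]; exact hSF ha⟩)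
      (fun a ha => ⟨hS' ha, u⁻¹ * (a * u * a⁻¹),
        mul_mem (inv_mem hu) (Cfsg.Lib.Coprime.conj_mem_of_mem_normalizer (hAU (hS' ha)) hu), ?_⟩)
    rw [show u⁻¹ * (a * u * a⁻¹) * a = u⁻¹ * a * u by group]
    exact (mem_fixer_translate (hUB hu)).1 (hS'F ha)
  set L := fixer B ψ ⊓ (U ⊔ A) with hL
  have hd : Disjoint U A := Cfsg.Lib.Coprime.disjoint_of_coprime_card hcop.symm
  have hcard := Cfsg.Lib.Coprime.card_eq_of_proj_surjective hAU hd (inf_le_right : L ≤ U ⊔ A) fun a ha => by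
    obtain ⟨n, hn, hna⟩ := (hA' ha).2
    exact ⟨n, hn, hna, mul_mem (mem_sup_left hn) (mem_sup_right ha)⟩
  have hUL : L ≤ normalizer ((U ⊓ L : Subgroup Γ) : Set Γ) := fun g hg => by
    have h1 : U ⊔ A ≤ normalizer (U : Set Γ) := sup_le le_normalizer hAU
    rw [mem_normalizer_iff_map_conj_eq, map_inf _ _ _ (MulAut.conj g).injective]
    exact congrArg₂ _ (mem_normalizer_iff_map_conj_eq.1 (h1 hg.2))
      (mem_normalizer_iff_map_conj_eq.1 (le_normalizer hg))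
  have hrel : (U ⊓ L).relIndex L = Nat.card A := by
    have h1 := Subgroup.card_mul_index ((U ⊓ L).subgroupOf L)
    rw [Nat.card_congr (subgroupOfEquivOfLe (inf_le_right : U ⊓ L ≤ L)).toEquiv, hcard] at h1
    exact Nat.eq_of_mul_eq_mul_left Nat.card_pos h1
  obtain ⟨D, hDL, hDc, -⟩ := Cfsg.Lib.Coprime.exists_complement_of_coprime (inf_le_right : U ⊓ L ≤ L) hUL
    (by rw [hrel]; exact hcop.symm.coprime_dvd_left (card_dvd_of_le inf_le_left))
  rw [hrel] at hDc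
  obtain ⟨n, hn, rfl⟩ := Cfsg.Lib.Coprime.exists_conj_of_coprime U A D hAU hcop (Or.inl h.isSolvable)
    (hDL.trans inf_le_right) hDc
  refine ⟨n⁻¹, inv_mem hn, fun a ha => (mem_fixer_translate (inv_mem (hUB hn))).2 ?_⟩
  rw [inv_inv]
  exact (hDL (mem_map_of_mem (MulAut.conj n).toMonoidHom ha)).1

end Cfsg.Lib.FitTwo
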