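import Cfsg.Agent.Lib.Coprime.Action
import Cfsg.Agent.Lib.Core.Basic
import Cfsg.Agent.Lib.Core.Fitting

/-!
A nonabelian group of order `p q` as a subgroup, and generalities on coprime abelian decompositions.
-/

set_option autoImplicit false

namespace Cfsg.Lib.FitTwo

open Subgroup
open scoped commutatorElement

variable {Γ : Type*} [Group Γ]

/-- A nonabelian subgroup of order `p * q` with its normal subgroup of order `q`. -/
structure Pq (A Q : Subgroup Γ) (p q : ℕ) : Prop where
  pprime : p.Prime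
  qprime : q.Prime
  pneq : p ≠ q
  card : Nat.card A = p * q
  nonab : ¬ ∀ a ∈ A, ∀ b ∈ A, a * b = b * a
  qle : Q ≤ A
  qcard : Nat.card Q = q
  qnorm : A ≤ normalizer (Q : Set Γ)

variable {A Q : Subgroup Γ} {p q : ℕ}

theorem card_zpowers_eq_orderOf (a : Γ) : Nat.card (zpowers a) = orderOf a := Nat.card_zpowers a

theorem commute_in_cyclic {S : Subgroup Γ} [Finite Γ] (hS : (Nat.card S).Prime) :
    ∀ a ∈ S, ∀ b ∈ S, a * b = b * a := by
  intro a ha b hb
  haveI := Fact.mk hS
  haveI : IsCyclic S := isCyclic_of_prime_card rfl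
  exact congrArg Subtype.val ((IsCyclic.commutative (α := S)).is_comm.comm ⟨a, ha⟩ ⟨b, hb⟩)

namespace Pq

theorem card_cases [Finite Γ] (h : Pq A Q p q) {S : Subgroup Γ} (hS : S ≤ A) :
    Nat.card S = 1 ∨ Nat.card S = p ∨ Nat.card S = q ∨ S = A := by
  obtain ⟨d, e, hd, he, hde⟩ := Nat.dvd_mul.1 (h.card ▸ card_dvd_of_le hS)
  rcases (Nat.dvd_prime h.pprime).1 hd with rfl | rfl <;> rcases (Nat.dvd_prime h.qprime).1 he with rfl | rfl
  · left; omega
  · right; right; left; omega
  · right; left; omega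
  · right; right; right
    exact eq_of_le_of_card_ge hS (by rw [h.card, hde])

theorem zpowers_prime [Finite Γ] (h : Pq A Q p q) {a : Γ} (ha : a ∈ A) (ha1 : a ≠ 1) :
    Nat.card (zpowers a) = p ∨ Nat.card (zpowers a) = q := by
  rcases h.card_cases (zpowers_le.2 ha) with e | e | e | e
  · exact absurd (orderOf_eq_one_iff.1 (by rw [← Nat.card_zpowers, e])) ha1
  · exact Or.inl e
  · exact Or.inr e
  · refine absurd ?_ h.nonab
    rw [← e]
    intro x hx y hy
    obtain ⟨i, rfl⟩ := mem_zpowers_iff.1 hx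
    obtain ⟨j, rfl⟩ := mem_zpowers_iff.1 hy
    exact ((Commute.refl a).zpow_zpow i j).eq

theorem prime_zpowers [Finite Γ] (h : Pq A Q p q) {a : Γ} (ha : a ∈ A) (ha1 : a ≠ 1) :
    (Nat.card (zpowers a)).Prime := by
  rcases h.zpowers_prime ha ha1 with e | e <;> rw [e]
  · exact h.pprime
  · exact h.qprime

theorem card_prime_cases [Finite Γ] (h : Pq A Q p q) {S : Subgroup Γ} (hS : S ≤ A) (hSp : (Nat.card S).Prime) :
    Nat.card S = p ∨ Nat.card S = q := by
  rcases h.card_cases hS with e | e | e | e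
  · exact absurd e hSp.ne_one
  · exact Or.inl e
  · exact Or.inr e
  · rw [e, h.card] at hSp
    exact absurd hSp (Nat.not_prime_mul h.pprime.ne_one h.qprime.ne_one)

theorem sup_eq [Finite Γ] (h : Pq A Q p q) {S S' : Subgroup Γ} (hS : S ≤ A) (hS' : S' ≤ A)
    (hp1 : (Nat.card S).Prime) (hp2 : (Nat.card S').Prime) (hne : S ≠ S') : S ⊔ S' = A := by
  have hle : S ⊔ S' ≤ A := sup_le hS hS'
  have h1 : Nat.card S ≤ Nat.card ↥(S ⊔ S') := card_le_of_le (le_sup_left : S ≤ S ⊔ S')
  have key : ∀ n : ℕ, n.Prime → Nat.card ↥(S ⊔ S') = n → False := by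
    intro n hn e
    have d1 : Nat.card S = n := ((Nat.dvd_prime hn).1 (e ▸ card_dvd_of_le le_sup_left)).resolve_left hp1.ne_one
    have d2 : Nat.card S' = n := ((Nat.dvd_prime hn).1 (e ▸ card_dvd_of_le le_sup_right)).resolve_left hp2.ne_one
    exact hne ((eq_of_le_of_card_ge le_sup_left (by rw [e, d1])).trans
      (eq_of_le_of_card_ge le_sup_right (by rw [e, d2])).symm)
  rcases h.card_cases hle with e | e | e | e
  · exact absurd (e ▸ h1) (not_le.2 hp1.one_lt)
  · exact (key p h.pprime e).elim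
  · exact (key q h.qprime e).elim
  · exact e

theorem qprime' (h : Pq A Q p q) : (Nat.card Q).Prime := h.qcard ▸ h.qprime

theorem eq_Q_of_card [Finite Γ] (h : Pq A Q p q) {S : Subgroup Γ} (hS : S ≤ A) (hc : Nat.card S = q) :
    S = Q := by
  by_contra hne
  have hA := h.sup_eq hS h.qle (hc ▸ h.qprime) h.qprime' hne
  have hSn : S ≤ normalizer (Q : Set Γ) := hS.trans h.qnorm
  have hd : Disjoint Q S := by
    rw [disjoint_iff]
    rcases (Nat.dvd_prime h.qprime).1 (hc ▸ card_dvd_of_le (inf_le_right : Q ⊓ S ≤ S)) with e | e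
    · exact card_eq_one.1 e
    · exact absurd ((eq_of_le_of_card_ge inf_le_right (by rw [hc, e])).symm.trans
        (eq_of_le_of_card_ge inf_le_left (by rw [h.qcard, e]))) hne
  have hcard := Cfsg.Lib.Coprime.card_sup_of_disjoint hSn hd
  rw [sup_comm, hA, h.card, h.qcard, hc] at hcard
  exact h.pneq (Nat.eq_of_mul_eq_mul_right h.qprime.pos hcard)

theorem sup_Q [Finite Γ] (h : Pq A Q p q) {S : Subgroup Γ} (hS : S ≤ A) (hc : Nat.card S = p) : S ⊔ Q = A :=
  h.sup_eq hS h.qle (hc ▸ h.pprime) h.qprime' (fun e => h.pneq (by rw [← hc, e, h.qcard]))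

theorem conj_ne [Finite Γ] (h : Pq A Q p q) {S : Subgroup Γ} (hS : S ≤ A) (hc : Nat.card S = p) {x : Γ}
    (hx : x ∈ Q) (hx1 : x ≠ 1) : S.map (MulAut.conj x).toMonoidHom ≠ S := by
  intro e
  have hxN : x ∈ normalizer (S : Set Γ) := mem_normalizer_iff_map_conj_eq.2 e
  have hQx : zpowers x = Q := h.eq_Q_of_card (zpowers_le.2 (h.qle hx)) (by
    rcases h.zpowers_prime (h.qle hx) hx1 with e' | e'
    · exact absurd ((Nat.prime_dvd_prime_iff_eq h.pprime h.qprime).1
        (e' ▸ h.qcard ▸ card_dvd_of_le (zpowers_le.2 hx))) h.pneq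
    · exact e')
  have hQN : Q ≤ normalizer (S : Set Γ) := hQx ▸ zpowers_le.2 hxN
  -- `S` and `Q` normalise each other, hence commute
  have hcomm : ∀ s ∈ S, ∀ y ∈ Q, s * y = y * s := by
    intro s hs y hy
    refine commutatorElement_eq_one_iff_mul_comm.1 ?_
    have h1 : ⁅s, y⁆ ∈ S := by
      rw [commutatorElement_def, mul_assoc, mul_assoc]
      refine mul_mem hs ?_
      rw [← mul_assoc]
      exact Cfsg.Lib.Coprime.conj_mem_of_mem_normalizer (hQN hy) (inv_mem hs)
    have h2 : ⁅s, y⁆ ∈ Q := by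
      rw [commutatorElement_def]
      exact mul_mem (Cfsg.Lib.Coprime.conj_mem_of_mem_normalizer (h.qnorm (hS hs)) hy) (inv_mem hy)
    have hd : Disjoint S Q := Cfsg.Lib.Coprime.disjoint_of_coprime_card (by
      rw [hc, h.qcard]; exact (Nat.coprime_primes h.pprime h.qprime).2 h.pneq)
    exact Subgroup.disjoint_def.1 hd h1 h2
  refine h.nonab ?_
  have hA : A ≤ centralizer ((A : Subgroup Γ) : Set Γ) := by
    nth_rewrite 1 [← h.sup_Q hS hc]
    refine sup_le ?_ ?_ <;> rw [← h.sup_Q hS hc] <;> intro g hg <;>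
      rw [mem_centralizer_iff] <;> intro z hz
    · have : S ⊔ Q ≤ centralizer ({g} : Set Γ) := sup_le
        (fun z hz => mem_centralizer_iff.2 fun g' hg' => by
          rw [Set.mem_singleton_iff] at hg'; rw [hg']; exact commute_in_cyclic (hc ▸ h.pprime) _ hg _ hz)
        (fun z hz => mem_centralizer_iff.2 fun g' hg' => by
          rw [Set.mem_singleton_iff] at hg'; rw [hg']; exact hcomm _ hg _ hz)
      exact (mem_centralizer_iff.1 (this hz) g rfl).symm
    · have : S ⊔ Q ≤ centralizer ({g} : Set Γ) := sup_le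
        (fun z hz => mem_centralizer_iff.2 fun g' hg' => by
          rw [Set.mem_singleton_iff] at hg'; rw [hg']; exact (hcomm _ hz _ hg).symm)
        (fun z hz => mem_centralizer_iff.2 fun g' hg' => by
          rw [Set.mem_singleton_iff] at hg'; rw [hg']; exact commute_in_cyclic h.qprime' _ hg _ hz)
      exact (mem_centralizer_iff.1 (this hz) g rfl).symm
  exact fun a ha b hb => (mem_centralizer_iff.1 (hA ha) b hb).symm

theorem isSolvable [Finite Γ] (h : Pq A Q p q) : Group.IsSolvable A := by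
  haveI : (Q.subgroupOf A).Normal := normal_subgroupOf_of_le_normalizer h.qnorm
  have hQ : IsMulCommutative (Q.subgroupOf A) := ⟨⟨fun a b => Subtype.ext (Subtype.ext
    (commute_in_cyclic h.qprime' _ (mem_subgroupOf.1 a.2) _ (mem_subgroupOf.1 b.2)))⟩⟩
  have hquo : Nat.card (↥A ⧸ Q.subgroupOf A) = p := by
    have h1 := Subgroup.card_eq_card_quotient_mul_card_subgroup (Q.subgroupOf A)
    rw [h.card, Nat.card_congr (subgroupOfEquivOfLe h.qle).toEquiv, h.qcard] at h1
    exact (Nat.eq_of_mul_eq_mul_right h.qprime.pos h1).symm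
  haveI := Fact.mk h.pprime
  haveI : IsCyclic (↥A ⧸ Q.subgroupOf A) := isCyclic_of_prime_card hquo
  haveI : Group.IsSolvable (Q.subgroupOf A) := Cfsg.Lib.Core.isSolvable_of_isMulCommutative _
  haveI : Group.IsSolvable (↥A ⧸ Q.subgroupOf A) := by
    haveI : IsMulCommutative (↥A ⧸ Q.subgroupOf A) := IsCyclic.commutative
    exact Cfsg.Lib.Core.isSolvable_of_isMulCommutative _
  exact Group.isSolvable_of_ker_le_range (Q.subgroupOf A).subtype (QuotientGroup.mk' (Q.subgroupOf A))
    (by rw [QuotientGroup.ker_mk', Subgroup.range_subtype])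

theorem map [Finite Γ] {G' : Type*} [Group G'] (h : Pq A Q p q) (f : Γ →* G')
    (hf : ∀ a ∈ A, f a = 1 → a = 1) : Pq (A.map f) (Q.map f) p q := by
  have hcard : ∀ H : Subgroup Γ, H ≤ A → Nat.card (H.map f) = Nat.card H := by
    intro H hH
    refine (Nat.card_congr (Equiv.ofBijective (fun x : H => (⟨f x, mem_map_of_mem f x.2⟩ : H.map f))
      ⟨fun x y e => ?_, ?_⟩)).symm
    · have e' : f x = f y := congrArg Subtype.val e
      exact Subtype.ext (inv_mul_eq_one.1 (hf _ (hH (mul_mem (inv_mem x.2) y.2))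
        (by rw [map_mul, map_inv, e', inv_mul_cancel])))
    · rintro ⟨_, x, hx, rfl⟩; exact ⟨⟨x, hx⟩, rfl⟩
  refine ⟨h.pprime, h.qprime, h.pneq, by rw [hcard A le_rfl, h.card], fun hc => h.nonab fun a ha b hb => ?_,
    map_mono h.qle, by rw [hcard Q h.qle, h.qcard],
    (map_mono h.qnorm).trans (le_normalizer_map f)⟩
  refine commutatorElement_eq_one_iff_mul_comm.1 (hf _ ?_ ?_)
  · rw [commutatorElement_def]; exact mul_mem (mul_mem (mul_mem ha hb) (inv_mem ha)) (inv_mem hb)
  · rw [map_commutatorElement, commutatorElement_eq_one_iff_mul_comm]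
    exact hc _ (mem_map_of_mem f ha) _ (mem_map_of_mem f hb)

end Pq

variable [Finite Γ]

/-- An abelian group acted on coprimely, with trivial fixed points, is the commutator. -/
theorem commutator_eq_self_of_inf_eq_bot {M L : Subgroup Γ} [IsMulCommutative M] (hLM : L ≤ normalizer (M : Set Γ))
    (hcop : (Nat.card L).Coprime (Nat.card M)) (hC : M ⊓ centralizer (L : Set Γ) = ⊥) : ⁅M, L⁆ = M := by
  have h := Cfsg.Lib.Coprime.commutator_sup_centralizer_eq hLM hcop
    (Or.inr (Cfsg.Lib.Core.isSolvable_of_isMulCommutative M))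
  rwa [hC, sup_bot_eq] at h

end Cfsg.Lib.FitTwo
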