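import Mathlib

/-!
An isometry commuting with a fixed-point-free isometry of order `2 ^ m + 1` of a nondegenerate form on a
space of order `2 ^ (2 m)` has order dividing `2 ^ m + 1`.
-/

set_option autoImplicit false

namespace Cfsg.Lib.FitTwo

theorem frob_add {R : Type*} [Ring R] (h2 : ∀ z : R, z + z = 0) {x y : R} (hxy : Commute x y) :
    ∀ m : ℕ, (x + y) ^ 2 ^ m = x ^ 2 ^ m + y ^ 2 ^ m := by
  intro m
  induction m with
  | zero => simp
  | succ m ih =>
    have hc : y ^ 2 ^ m * x ^ 2 ^ m = x ^ 2 ^ m * y ^ 2 ^ m := (hxy.pow_pow _ _).symm.eq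
    rw [pow_succ, pow_mul, ih, pow_mul, pow_mul, sq, sq, sq, add_mul, mul_add, mul_add, hc]
    have h := h2 (x ^ 2 ^ m * y ^ 2 ^ m)
    calc _ = x ^ 2 ^ m * x ^ 2 ^ m + (x ^ 2 ^ m * y ^ 2 ^ m + x ^ 2 ^ m * y ^ 2 ^ m) +
          y ^ 2 ^ m * y ^ 2 ^ m := by abel
      _ = _ := by rw [h, add_zero]

theorem two_mul_dvd_exponent {m d : ℕ} (hm : 0 < m) (hd : 0 < d) (hd2 : d ≤ 2 * m)
    (h : 2 ^ m + 1 ∣ 2 ^ d - 1) : d = 2 * m := by
  by_contra hne
  rcases Nat.lt_or_ge m d with hlt | hle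
  · obtain ⟨e, rfl⟩ : ∃ e, d = m + e := ⟨d - m, by omega⟩
    have hem : e < m := by omega
    have h1 : 2 ^ m + 1 ∣ (2 ^ (m + e) - 1) + (2 ^ e + 1) := by
      have : 1 ≤ 2 ^ (m + e) := Nat.one_le_two_pow
      exact ⟨2 ^ e, by rw [add_mul, one_mul, ← pow_add]; omega⟩
    have h2 := (Nat.dvd_add_right h).1 h1
    have h3 : 2 ^ e < 2 ^ m := Nat.pow_lt_pow_right (by norm_num) hem
    exact absurd (Nat.le_of_dvd (by positivity) h2) (by omega)
  · have h1 : 2 ^ d ≤ 2 ^ m := Nat.pow_le_pow_right (by norm_num) hle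
    have h2 : 1 < 2 ^ d := Nat.one_lt_two_pow (by omega)
    exact absurd (Nat.le_of_dvd (by omega) h) (by omega)

/-- The isometry lemma. -/
theorem unitary_pow_eq_one {V : Type*} [AddCommGroup V] [Finite V] [Nontrivial V] {C : Type*} [CommMonoid C]
    (h2 : ∀ v : V, v + v = 0) {m : ℕ} (hm : 0 < m) (hr : (2 ^ m + 1).Prime) (hV : Nat.card V = 2 ^ (2 * m))
    (B : V → V → C) (hadd : ∀ x y z, B (x + y) z = B x z * B y z)
    (hadd' : ∀ x y z, B x (y + z) = B x y * B x z) (hzero : ∀ z, B 0 z = 1) (hzero' : ∀ z, B z 0 = 1)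
    (hnd : ∀ y, (∀ x, B x y = 1) → y = 0)
    (s u : AddMonoid.End V) (hs : ∀ x y, B (s x) (s y) = B x y) (hu : ∀ x y, B (u x) (u y) = B x y)
    (hcomm : Commute u s) (hsr : s ^ (2 ^ m + 1) = 1) (hfree : ∀ v : V, s v = v → v = 0) :
    u ^ (2 ^ m + 1) = 1 := by
  classical
  set r := 2 ^ m + 1 with hrdef
  haveI := Fact.mk hr
  haveI : Fact (Nat.Prime 2) := ⟨Nat.prime_two⟩
  have hend2 : ∀ f : AddMonoid.End V, f + f = 0 := fun f => AddMonoidHom.ext fun v => h2 (f v)
  have hsinv : ∀ j x y, B ((s ^ j) x) ((s ^ j) y) = B x y := by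
    intro j
    induction j with
    | zero => intro x y; rfl
    | succ j ih =>
      intro x y
      rw [pow_succ', show (s * s ^ j) x = s ((s ^ j) x) from rfl, show (s * s ^ j) y = s ((s ^ j) y) from rfl,
        hs, ih]
  let Good : AddMonoid.End V → Prop := fun f =>
    (∀ g : AddMonoid.End V, Commute g s → Commute g f) ∧ ∀ x y, B (f x) y = B x ((f ^ 2 ^ m) y)
  have hGs : ∀ i : ℕ, Good (s ^ i) := by
    refine fun i => ⟨fun g hg => hg.pow_right i, fun x y => ?_⟩
    rw [← pow_mul, ← hsinv (i * 2 ^ m) ((s ^ i) x) y, show (s ^ (i * 2 ^ m)) ((s ^ i) x) =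
      (s ^ (i * 2 ^ m) * s ^ i) x from rfl, ← pow_add,
      show i * 2 ^ m + i = r * i by rw [hrdef]; ring, pow_mul, hsr, one_pow]
    rfl
  have hG0 : Good 0 := by
    refine ⟨fun g _ => Commute.zero_right g, fun x y => ?_⟩
    rw [zero_pow (pow_pos two_pos m).ne', show (0 : AddMonoid.End V) x = 0 from rfl,
      show (0 : AddMonoid.End V) y = 0 from rfl, hzero, hzero']
  have hGadd : ∀ f g, Good f → Good g → Good (f + g) := by
    intro f g hf hg
    refine ⟨fun k hk => (hf.1 k hk).add_right (hg.1 k hk), fun x y => ?_⟩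
    have hfs : Commute f s := (hf.1 s (Commute.refl s)).symm
    rw [frob_add hend2 (hg.1 f hfs) m, show (f + g) x = f x + g x from rfl,
      show (f ^ 2 ^ m + g ^ 2 ^ m) y = (f ^ 2 ^ m) y + (g ^ 2 ^ m) y from rfl, hadd, hadd', hf.2, hg.2]
  -- a cyclic vector
  obtain ⟨a, ha⟩ := exists_ne (0 : V)
  set L := AddSubgroup.closure (Set.range fun i : ℕ => (s ^ i) a) with hL
  have hsL : ∀ v ∈ L, s v ∈ L := by
    intro v hv
    induction hv using AddSubgroup.closure_induction with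
    | mem x hx =>
      obtain ⟨i, rfl⟩ := hx
      exact AddSubgroup.subset_closure ⟨i + 1, by simp only [pow_succ']; rfl⟩
    | zero => rw [map_zero]; exact zero_mem _
    | add x y _ _ hx hy => rw [map_add]; exact add_mem hx hy
    | neg x _ hx => rw [map_neg]; exact neg_mem hx
  have hrinv : ∀ v : V, (s ^ 2 ^ m) (s v) = v := fun v => by
    rw [show (s ^ 2 ^ m) (s v) = (s ^ 2 ^ m * s) v from rfl, ← pow_succ, ← hrdef, hsr]; rfl
  have hrinv' : ∀ v : V, s ((s ^ 2 ^ m) v) = v := fun v => by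
    rw [show s ((s ^ 2 ^ m) v) = (s * s ^ 2 ^ m) v from rfl, ← pow_succ', ← hrdef, hsr]; rfl
  have hspL : ∀ i : ℕ, ∀ v ∈ L, (s ^ i) v ∈ L := by
    intro i
    induction i with
    | zero => exact fun v hv => hv
    | succ i ih => intro v hv; rw [pow_succ']; exact hsL _ (ih v hv)
  let σ : Equiv.Perm L :=
    { toFun := fun v => ⟨s v, hsL v v.2⟩
      invFun := fun v => ⟨(s ^ 2 ^ m) v, hspL _ v v.2⟩
      left_inv := fun v => Subtype.ext (hrinv v)
      right_inv := fun v => Subtype.ext (hrinv' v) }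
  have hσpow : ∀ (i : ℕ) (v : L), ((σ ^ i) v : V) = (s ^ i) v := by
    intro i
    induction i with
    | zero => intro v; rfl
    | succ i ih => intro v; rw [pow_succ', pow_succ', Equiv.Perm.mul_apply]; show s _ = _; rw [ih v]; rfl
  have hσr : σ ^ r = 1 := Equiv.ext fun v => Subtype.ext (by rw [hσpow, hsr]; rfl)
  have hP : IsPGroup r (Subgroup.zpowers σ) := by
    rintro ⟨g, hg⟩
    obtain ⟨k, rfl⟩ := Subgroup.mem_zpowers_iff.1 hg
    refine ⟨1, Subtype.ext ?_⟩
    show (σ ^ k) ^ r ^ 1 = 1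
    rw [pow_one, ← zpow_natCast, ← zpow_mul, mul_comm, zpow_mul, zpow_natCast, hσr, one_zpow]
  have hfix : Nat.card (MulAction.fixedPoints (Subgroup.zpowers σ) L) = 1 := by
    have : MulAction.fixedPoints (Subgroup.zpowers σ) L = {0} := by
      ext v
      refine ⟨fun hv => ?_, fun hv => ?_⟩
      · exact Subtype.ext (hfree v (congrArg Subtype.val (hv ⟨σ, Subgroup.mem_zpowers σ⟩)))
      · rw [Set.mem_singleton_iff] at hv
        subst hv
        rintro ⟨g, hg⟩
        have hle : Subgroup.zpowers σ ≤ MulAction.stabilizer (Equiv.Perm L) (0 : L) :=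
          Subgroup.zpowers_le.2 (Subtype.ext (map_zero s))
        exact hle hg
    rw [this]
    simp
  have hmod := hP.card_modEq_card_fixedPoints L
  rw [hfix] at hmod
  have hp2 : IsPGroup 2 (Multiplicative V) := fun v => ⟨1, by
    rw [pow_one, sq]; exact h2 v.toAdd⟩
  obtain ⟨d, hd⟩ := IsPGroup.iff_card.1 (hp2.to_subgroup (AddSubgroup.toSubgroup L))
  replace hd : Nat.card L = 2 ^ d := hd
  have haL : a ∈ L := AddSubgroup.subset_closure ⟨0, rfl⟩
  have hd0 : 0 < d := by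
    rcases Nat.eq_zero_or_pos d with rfl | h
    · haveI : Subsingleton L := (Nat.card_eq_one_iff_unique.1 (by rw [hd, pow_zero])).1
      exact absurd (congrArg Subtype.val (Subsingleton.elim (⟨a, haL⟩ : L) 0)) ha
    · exact h
  have hdle : d ≤ 2 * m := by
    have h1 := AddSubgroup.card_addSubgroup_dvd_card L
    rw [hd, hV] at h1
    exact Nat.pow_dvd_pow_iff_le_right'.1 h1
  have hdm := two_mul_dvd_exponent hm hd0 hdle (by
    rw [hd] at hmod
    exact (Nat.modEq_iff_dvd' Nat.one_le_two_pow).1 hmod.symm)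
  have htop : L = ⊤ := AddSubgroup.eq_top_of_card_eq L (by rw [hd, hV, hdm])
  obtain ⟨f, hf, hfa⟩ : ∃ f, Good f ∧ f a = u a := by
    have h : u a ∈ L := htop ▸ AddSubgroup.mem_top _
    revert h
    generalize u a = w
    intro h
    induction h using AddSubgroup.closure_induction with
    | mem x hx => obtain ⟨i, rfl⟩ := hx; exact ⟨s ^ i, hGs i, rfl⟩
    | zero => exact ⟨0, hG0, rfl⟩
    | add x y _ _ hx hy =>
      obtain ⟨f, hf, rfl⟩ := hx
      obtain ⟨g, hg, rfl⟩ := hy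
      exact ⟨f + g, hGadd f g hf hg, rfl⟩
    | neg x _ hx =>
      obtain ⟨f, hf, hfx⟩ := hx
      exact ⟨f, hf, by rw [hfx]; exact eq_neg_of_add_eq_zero_left (h2 x)⟩
  have hfs : Commute f s := (hf.1 s (Commute.refl s)).symm
  have huf : u = f := by
    refine AddMonoidHom.eq_of_eqOn_dense (s := Set.range fun i : ℕ => (s ^ i) a) htop fun v hv => ?_
    obtain ⟨i, rfl⟩ := hv
    show (u * s ^ i) a = (f * s ^ i) a
    rw [(hcomm.pow_right i).eq, (hfs.pow_right i).eq]
    show (s ^ i) (u a) = (s ^ i) (f a)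
    rw [hfa]
  subst huf
  refine AddMonoidHom.ext fun y => ?_
  have hkey : ∀ x, B x ((u ^ r) y) = B x y := by
    intro x
    rw [hrdef, pow_succ, show (u ^ 2 ^ m * u) y = (u ^ 2 ^ m) (u y) from rfl, ← hf.2, hu]
  show (u ^ r) y = y
  refine sub_eq_zero.1 (hnd _ fun x => ?_)
  have e : (u ^ r) y - y = (u ^ r) y + y := by rw [sub_eq_iff_eq_add, add_assoc, h2, add_zero]
  rw [e, hadd', hkey, ← hadd', h2, hzero']

end Cfsg.Lib.FitTwo
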