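import Cfsg.Agent.Lib.FitTwo.Exceptional
import Cfsg.Agent.Lib.FitTwo.Pq
import Cfsg.Agent.Lib.FitTwo.Unitary
import Cfsg.Agent.Lib.Char.FrobFixed

/-!
A `u`-group acting on a scalar-commutator `t`-group next to a fixed-point-free element of prime order with
zero norm acts trivially modulo the centre.
-/

set_option autoImplicit false

namespace Cfsg.Lib.FitTwo

open Subgroup Cfsg.Lib.Local
open scoped commutatorElement

variable {H : Type*} [Group H] [Finite H] {F : Type*} [Field F] {V : Type*} [AddCommGroup V] [Module F V]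

/-- The centre of a commutator with a coprime operator is in the centre of the whole. -/
theorem Scal.cent_eq {ρ : H →* Module.End F V} {T L : Subgroup H} {t : ℕ} (hs : Scal ρ T t)
    (hρ : Function.Injective ρ) (hL : L ≤ normalizer (T : Set H)) (hcop : (Nat.card L).Coprime (Nat.card T))
    (hsol : Group.IsSolvable L ∨ Group.IsSolvable T) :
    centralizer ((⁅T, L⁆ : Subgroup H) : Set H) ⊓ ⁅T, L⁆ = centralizer (T : Set H) ⊓ ⁅T, L⁆ := by
  have hle : ⁅T, L⁆ ≤ T := Cfsg.Lib.Coprime.commutator_le_of_le_normalizer hL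
  refine le_antisymm (fun a ha => ⟨mem_centralizer_iff.2 fun b hb => ?_, ha.2⟩)
    (inf_le_inf_right _ (centralizer_le hle))
  obtain ⟨n, hn, c, hc, rfl⟩ := Cfsg.Lib.Coprime.le_commutator_sup_centralizer hL hcop hsol hb
  have h2 : a * c = c * a := mem_centralizer_singleton_iff.1 (hs.orth hρ hL hc.1 hc.2 ha.2).2
  rw [mul_assoc, ← h2, ← mul_assoc, mem_centralizer_iff.1 ha.1 n hn, mul_assoc]

theorem pow_eq_two_bound {r m i j : ℕ} (hm : 0 < m) (hr : r = 2 ^ m + 1) (hij : i * r = 2 * j)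
    (hle : i * (r - 1) ≤ 2 * m) : i = 0 := by
  by_contra hi
  rw [hr, Nat.add_sub_cancel] at hle
  have hmlt : m < 2 ^ m := Nat.lt_two_pow_self
  have : i = 1 := by
    by_contra hne
    have : 2 * 2 ^ m ≤ i * 2 ^ m := Nat.mul_le_mul_right _ (by omega)
    omega
  subst this
  have h1 : Even (2 ^ m) := (Nat.even_pow' (by omega)).2 even_two
  rw [one_mul, hr] at hij
  have h2 : Even (2 ^ m + 1) := ⟨j, by omega⟩
  exact Nat.not_even_iff_odd.2 h1.add_one h2

/-- The endgame. -/
theorem endgame [IsAlgClosed F] [FiniteDimensional F V] [Nontrivial V] {ρ : H →* Module.End F V}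
    (hρ : Function.Injective ρ) {T U : Subgroup H} [hTn : T.Normal] {t : ℕ} [ht : Fact t.Prime]
    (hs : Scal ρ T t) (hT : IsPGroup t T) (htF : (t : F) ≠ 0) {r : ℕ} [hr : Fact r.Prime] (hrF : (r : F) ≠ 0)
    (htr : t ≠ r) (hUT : (Nat.card U).Coprime (Nat.card T)) (hUr : (Nat.card U).Coprime r) {y : H}
    (hyr : y ^ r = 1) (hN : ∑ i ∈ Finset.range r, ρ y ^ i = 0) (hyU : y ∈ normalizer (U : Set H))
    (hUab : ⁅U, U⁆ ≤ centralizer (T : Set H))
    (hfix : T ⊓ centralizer ((⁅U, zpowers y⁆ : Subgroup H) : Set H) ⊓ centralizer ((zpowers y : Subgroup H) : Set H)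
      ≤ centralizer (T : Set H))
    (hmove : ∃ x ∈ T, ∃ g ∈ U, ⁅x, g⁆ ∉ centralizer (T : Set H)) : False := by
  classical
  have hN' : ∀ L : Subgroup H, L ≤ normalizer (T : Set H) := fun L => by rw [normalizer_eq_top]; exact le_top
  set K := ⁅U, zpowers y⁆ with hK
  have hyNU : zpowers y ≤ normalizer (U : Set H) := zpowers_le.2 hyU
  have hKU : K ≤ U := Cfsg.Lib.Coprime.commutator_le_of_le_normalizer hyNU
  have hyc : (Nat.card (zpowers y)) ∣ r := by rw [Nat.card_zpowers]; exact orderOf_dvd_of_pow_eq_one hyr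
  obtain ⟨e, he⟩ := IsPGroup.iff_card.1 hT
  have hrT : Nat.Coprime r (Nat.card T) := by
    rw [he]; exact ((Nat.coprime_primes hr.out ht.out).2 htr.symm).pow_right e
  have hyT : (Nat.card (zpowers y)).Coprime (Nat.card T) := hrT.coprime_dvd_left hyc
  have hsolT : Group.IsSolvable T := by haveI := hT.isNilpotent; exact IsNilpotent.to_isSolvable
  have hsoly : Group.IsSolvable ↥(zpowers y) := Cfsg.Lib.Core.isSolvable_of_isMulCommutative _
  have hyU' : (Nat.card (zpowers y)).Coprime (Nat.card U) := hUr.symm.coprime_dvd_left hyc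
  -- `y` moves `T`
  have hymove : ∃ a ∈ T, y * a * y⁻¹ ≠ a := by
    by_contra hcon
    push Not at hcon
    have hTy : ⁅T, zpowers y⁆ = ⊥ := by
      rw [commutator_eq_bot_iff_le_centralizer]
      intro a ha
      rw [mem_centralizer_iff]
      intro g hg
      obtain ⟨k, rfl⟩ := mem_zpowers_iff.1 hg
      exact ((show Commute y a from mul_inv_eq_iff_eq_mul.1 (hcon a ha)).zpow_left k).eq
    have hTK : ⁅K, T⁆ = ⊥ := by
      refine Subgroup.commutator_commutator_eq_bot_of_rotate ?_ ?_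
      · rw [Subgroup.commutator_comm (zpowers y), hTy, Subgroup.commutator_bot_left]
      · exact le_bot_iff.1 ((commutator_mono (Cfsg.Lib.Coprime.commutator_le_of_le_normalizer (hN' U)) le_rfl).trans
          hTy.le)
    obtain ⟨x, hx, g, hg, hne⟩ := hmove
    have hTc : T ≤ centralizer (T : Set H) := fun a ha => hfix ⟨⟨ha, by
      rw [Subgroup.commutator_comm] at hTK
      exact commutator_eq_bot_iff_le_centralizer.1 hTK ha⟩, commutator_eq_bot_iff_le_centralizer.1 hTy ha⟩
    exact hne (hTc (Cfsg.Lib.Coprime.commutator_le_of_le_normalizer (hN' U) (commutator_mem_commutator hx hg)))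
  obtain ⟨rfl, m, hm, hrm, hQ0⟩ := exceptional hρ hs hT htF hrF htr hyr
    (fun a ha => hTn.conj_mem a ha y) hN hymove
  -- the central quotient
  set Z := T ⊓ centralizer (T : Set H) with hZ
  haveI : Z.Normal := inferInstance
  set π := QuotientGroup.mk' Z with hπ
  have hker : π.ker = Z := QuotientGroup.ker_mk' Z
  set M := T.map π with hM
  haveI : M.Normal := hTn.map π (QuotientGroup.mk'_surjective Z)
  haveI hMc : IsMulCommutative M := ⟨⟨fun a b => by
    obtain ⟨x, hx, hxa⟩ := a.2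
    obtain ⟨y', hy', hyb⟩ := b.2
    refine Subtype.ext ?_
    show (a : H ⧸ Z) * b = b * a
    rw [← hxa, ← hyb, ← commutatorElement_eq_one_iff_mul_comm, ← map_commutatorElement]
    refine (QuotientGroup.eq_one_iff _).2 (Subgroup.mem_inf.2 ⟨?_,
      mem_centralizer_iff.2 fun d _ => (hs.central hρ hx hy' d).symm⟩)
    rw [commutatorElement_def]
    exact mul_mem (mul_mem (mul_mem hx hy') (inv_mem hx)) (inv_mem hy')⟩⟩
  have hMexp : ∀ x ∈ M, x ^ 2 = (1 : H ⧸ Z) := by
    rintro _ ⟨x, hx, rfl⟩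
    rw [← map_pow]
    refine (QuotientGroup.eq_one_iff _).2 ⟨pow_mem hx 2, mem_centralizer_iff.2 fun d _ => ?_⟩
    obtain ⟨c, hc⟩ := hs.pow x hx
    exact (central_of_scalar hρ hc d).symm
  have hcardmap : ∀ S : Subgroup H, S ≤ T →
      Nat.card (S.map π) = (centralizer (T : Set H)).relIndex S := fun S hS => by
    rw [← relIndex_bot_left, ← Subgroup.map_bot π, relIndex_map_map, hker, bot_sup_eq,
      sup_eq_left.2 (le_refl Z) |>.symm]
    simp only [sup_idem]
    rw [relIndex_sup_right, ← inf_relIndex_right, ← inf_relIndex_right (centralizer (T : Set H))]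
    congr 1
    rw [hZ, inf_assoc, inf_comm (centralizer (T : Set H)) S, ← inf_assoc, inf_eq_right.2 hS, inf_comm]
  have hcop_map : ∀ L : Subgroup H, (Nat.card L).Coprime (Nat.card T) →
      (Nat.card (L.map π)).Coprime (Nat.card M) := fun L hL =>
    (hL.coprime_dvd_left (card_map_dvd _ _)).coprime_dvd_right (card_map_dvd _ _)
  have hNM : ∀ L : Subgroup (H ⧸ Z), L ≤ normalizer (M : Set (H ⧸ Z)) := fun L => by
    rw [normalizer_eq_top]; exact le_top
  -- the subgroup generated by `K` and `y`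
  set L := K ⊔ zpowers y with hL
  have hyK : zpowers y ≤ normalizer (K : Set H) := fun g hg => by
    have e1 : U.map (MulAut.conj g).toMonoidHom = U := mem_normalizer_iff_map_conj_eq.1 (hyNU hg)
    have e2 : (zpowers y).map (MulAut.conj g).toMonoidHom = zpowers y :=
      mem_normalizer_iff_map_conj_eq.1 (le_normalizer hg)
    rw [mem_normalizer_iff_map_conj_eq, hK, map_commutator]
    exact congrArg₂ _ e1 e2
  have hKy : (Nat.card K).Coprime (Nat.card (zpowers y)) := hyU'.symm.coprime_dvd_left (card_dvd_of_le hKU)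
  have hdKy : Disjoint K (zpowers y) := Cfsg.Lib.Coprime.disjoint_of_coprime_card hKy
  have hLcard : Nat.card L = Nat.card K * Nat.card (zpowers y) := Cfsg.Lib.Coprime.card_sup_of_disjoint hyK hdKy
  have hLT : (Nat.card L).Coprime (Nat.card T) := by
    rw [hLcard]; exact Nat.Coprime.mul_left (hUT.coprime_dvd_left (card_dvd_of_le hKU)) hyT
  have hCL : M ⊓ centralizer ((L.map π : Subgroup _) : Set (H ⧸ Z)) = ⊥ := by
    rw [hM, ← Cfsg.Lib.Coprime.map_inf_centralizer_eq π (hN' L) hLT (Or.inr hsolT), eq_bot_iff]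
    rintro _ ⟨x, ⟨hxT, hxL⟩, rfl⟩
    refine mem_bot.2 ((QuotientGroup.eq_one_iff _).2 ⟨hxT, hfix ⟨⟨hxT, mem_centralizer_iff.2 fun g hg =>
      mem_centralizer_iff.1 hxL g (mem_sup_left hg)⟩, mem_centralizer_iff.2 fun g hg =>
      mem_centralizer_iff.1 hxL g (mem_sup_right hg)⟩⟩)
  set K' := K.map π with hK'
  set E' := (zpowers y).map π with hE'
  -- the sizes of commutators
  have hsizeQ : Nat.card ↥⁅M, E'⁆ = 2 ^ (2 * m) := by
    rw [hM, hE', ← map_commutator, hcardmap _ (Cfsg.Lib.Coprime.commutator_le_of_le_normalizer (hN' _)),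
      ← inf_relIndex_right, ← hs.cent_eq hρ (hN' _) hyT (Or.inl hsoly), inf_relIndex_right]
    exact hQ0
  have hY1 : ⁅M, K'⁆ = ⊥ := by
    set Y := ⁅M, K'⁆ with hY
    obtain ⟨j, hj⟩ := square hρ hs htF (Cfsg.Lib.Coprime.commutator_le_of_le_normalizer (hN' K) : ⁅T, K⁆ ≤ T)
    have hYcard : Nat.card Y = 2 ^ (2 * j) := by
      rw [hY, hM, hK', ← map_commutator, hcardmap _ (Cfsg.Lib.Coprime.commutator_le_of_le_normalizer (hN' _)),
        ← inf_relIndex_right, ← hs.cent_eq hρ (hN' _) (hUT.coprime_dvd_left (card_dvd_of_le hKU)) (Or.inr hsolT),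
        inf_relIndex_right]
      exact hj
    have hYM : Y ≤ M := Cfsg.Lib.Coprime.commutator_le_of_le_normalizer (hNM _)
    haveI hYc : IsMulCommutative Y := ⟨⟨fun a b => Subtype.ext
      (congrArg (fun z : M => (z : H ⧸ Z)) (hMc.is_comm.comm ⟨a, hYM a.2⟩ ⟨b, hYM b.2⟩))⟩⟩
    set L' := L.map π with hL'
    have hLY : L' ≤ normalizer (Y : Set (H ⧸ Z)) := fun g hg => by
      obtain ⟨g0, hg0, rfl⟩ := hg
      have hgK : g0 ∈ normalizer (K : Set H) := (sup_le le_normalizer hyK) hg0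
      have e1 : M.map (MulAut.conj (π g0)).toMonoidHom = M := mem_normalizer_iff_map_conj_eq.1 (hNM ⊤ (mem_top _))
      have e2 : K'.map (MulAut.conj (π g0)).toMonoidHom = K' :=
        mem_normalizer_iff_map_conj_eq.1 (le_normalizer_map π (mem_map_of_mem π hgK))
      rw [mem_normalizer_iff_map_conj_eq, hY, map_commutator]
      exact congrArg₂ _ e1 e2
    let f : L' →* MulAut Y := Y.normalizerMonoidHom.comp (inclusion hLY)
    have hf : ∀ (g : L') (v : Y), ((f g v : Y) : H ⧸ Z) = g * v * (g : H ⧸ Z)⁻¹ := fun g v => rfl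
    have hK'L : K' ≤ L' := map_mono le_sup_left
    have hE'L : E' ≤ L' := map_mono le_sup_right
    set Γf := f.range with hΓf
    let f' : L' →* Γf := f.rangeRestrict
    have hf' : Function.Surjective f' := f.rangeRestrict_surjective
    set Uf := (K'.subgroupOf L').map f' with hUf
    set Ef := (E'.subgroupOf L').map f' with hEf
    haveI hKn : (K'.subgroupOf L').Normal := normal_subgroupOf_of_le_normalizer (by
      rw [hL', hL, Subgroup.map_sup]
      exact sup_le le_normalizer ((map_mono hyK).trans (le_normalizer_map π)))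
    haveI hUfn : Uf.Normal := hKn.map f' hf'
    have hLsup : K'.subgroupOf L' ⊔ E'.subgroupOf L' = ⊤ := by
      rw [← subgroupOf_sup hK'L hE'L, subgroupOf_eq_top, hL', hL, Subgroup.map_sup]
    have hj' : Uf ⊔ Ef = ⊤ := by
      rw [hUf, hEf, ← Subgroup.map_sup, hLsup, map_top_of_surjective f' hf']
    have hd1 : Nat.card Uf ∣ Nat.card U :=
      (card_map_dvd _ _).trans ((Nat.card_congr (subgroupOfEquivOfLe hK'L).toEquiv).symm ▸
        (card_map_dvd _ _).trans (card_dvd_of_le hKU))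
    have hd2 : Nat.card Ef ∣ r :=
      (card_map_dvd _ _).trans ((Nat.card_congr (subgroupOfEquivOfLe hE'L).toEquiv).symm ▸
        (card_map_dvd _ _).trans hyc)
    have hcopUE : (Nat.card Ef).Coprime (Nat.card Uf) := (hUr.symm.coprime_dvd_left hd2).coprime_dvd_right hd1
    have hdis : Uf ⊓ Ef = ⊥ := disjoint_iff.1 (Cfsg.Lib.Coprime.disjoint_of_coprime_card hcopUE.symm)
    have hTcomm : ∀ k ∈ K, ∀ k' ∈ K, ∀ v ∈ Y, π ⁅k, k'⁆ * v * (π ⁅k, k'⁆)⁻¹ = v := by
      intro k hk k' hk' v hv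
      obtain ⟨x, hx, rfl⟩ := hYM hv
      rw [← map_inv, ← map_mul, ← map_mul]
      congr 1
      rw [← mem_centralizer_iff.1 (hUab (commutator_mem_commutator (hKU hk) (hKU hk'))) x hx,
        mul_inv_cancel_right]
    haveI hUfc : IsMulCommutative Uf := ⟨⟨fun a b => by
      obtain ⟨⟨a0, ha0⟩, ⟨k, hk, (hke : π k = a0)⟩, ha⟩ := a.2
      obtain ⟨⟨b0, hb0⟩, ⟨k', hk', (hke' : π k' = b0)⟩, hb⟩ := b.2
      subst hke hke'
      refine Subtype.ext ?_
      show (a : Γf) * b = b * a
      rw [← ha, ← hb, ← commutatorElement_eq_one_iff_mul_comm, ← map_commutatorElement]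
      refine Subtype.ext (MulEquiv.ext fun v => Subtype.ext ?_)
      show ((f ⁅_, _⁆ v : Y) : H ⧸ Z) = v
      rw [hf]
      simp only [commutatorElement_def, Subgroup.coe_mul, InvMemClass.coe_inv]
      have := hTcomm k hk k' hk' v v.2
      simpa [commutatorElement_def, map_mul, map_inv] using this⟩⟩
    have hUE : ⁅Uf, Ef⁆ = Uf := by
      rw [hUf, hEf, ← map_commutator]
      congr 1
      refine map_injective (subtype_injective L') ?_
      rw [map_commutator, map_subgroupOf_eq_of_le hK'L, map_subgroupOf_eq_of_le hE'L, hK', hE', ← map_commutator,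
        hK, Cfsg.Lib.Coprime.commutator_commutator_eq hyNU hyU' (Or.inl hsoly)]
    have hEN : Ef ≤ normalizer (Uf : Set Γf) := by rw [normalizer_eq_top]; exact le_top
    have hdisj := Cfsg.Lib.Coprime.disjoint_commutator_centralizer (G := Uf) (A := Ef) hEN hcopUE
    -- fixed points of `K'` on `Y`
    have hKY : ∀ v ∈ Y, (∀ k ∈ K', k * v * k⁻¹ = v) → v = 1 := by
      intro v hv hk
      refine Subgroup.disjoint_def.1 (Cfsg.Lib.Coprime.disjoint_commutator_centralizer (G := M) (A := K') (hNM _)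
        (hcop_map K (hUT.coprime_dvd_left (card_dvd_of_le hKU)))) hv (mem_centralizer_iff.2 fun k hk' => ?_)
      exact mul_inv_eq_iff_eq_mul.1 (hk k hk')
    have hfixU : ∀ v : Y, (∀ k : Uf, (k : Γf) • v = v) → v = 1 := by
      intro v hv
      refine Subtype.ext (hKY v v.2 fun k hk => ?_)
      have h1 := hv ⟨f' ⟨k, hK'L hk⟩, mem_map_of_mem f' (mem_subgroupOf.2 hk)⟩
      exact congrArg Subtype.val h1
    by_contra hYne
    have hUfne : Uf ≠ ⊥ := fun e => hYne (by
      rw [eq_bot_iff]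
      intro v hv
      refine mem_bot.2 (congrArg Subtype.val (hfixU ⟨v, hv⟩ fun k => ?_))
      have hk1 : (k : Γf) = 1 := mem_bot.1 (by rw [← e]; exact k.2)
      rw [hk1]; rfl)
    have hEfne : Ef ≠ ⊥ := fun e => hUfne (by rw [← hUE, e, Subgroup.commutator_bot_right])
    have hEcard : Nat.card Ef = r :=
      ((Nat.dvd_prime hr.out).1 hd2).resolve_left fun h1 => hEfne (card_eq_one.1 h1)
    have hgenE : ∀ e ∈ Ef, e ≠ 1 → zpowers e = Ef := fun e he he1 => by
      refine eq_of_le_of_card_ge (zpowers_le.2 he) ?_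
      rcases (Nat.dvd_prime hr.out).1 (hEcard ▸ card_dvd_of_le (zpowers_le.2 he)) with h1 | h1
      · exact absurd (orderOf_eq_one_iff.1 (by rw [← Nat.card_zpowers, h1])) he1
      · rw [hEcard, h1]
    letI : CommGroup Y := { (inferInstance : Group Y) with mul_comm := fun a b => hYc.is_comm.comm a b }
    have hΓcop : (Nat.card Γf).Coprime 2 := by
      rcases Nat.eq_zero_or_pos e with h0 | h0
      · subst h0
        exfalso
        haveI : Subsingleton T := (Nat.card_eq_one_iff_unique.1 (by rw [he, pow_zero])).1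
        obtain ⟨a, ha, hne⟩ := hymove
        exact hne (congrArg Subtype.val (Subsingleton.elim (⟨_, hTn.conj_mem a ha y⟩ : T) ⟨a, ha⟩))
      · refine (hLT.coprime_dvd_left ?_).coprime_dvd_right (he ▸ dvd_pow_self 2 (by omega))
        exact (card_range_dvd f).trans (card_map_dvd _ _)
    have hform := Cfsg.Lib.Char.FrobFixed.elementary_formula Uf Ef hdis hj'
      (fun e he he1 g hg hcomm => Subgroup.disjoint_def.1 hdisj (hUE.symm ▸ hg) (mem_centralizer_iff.2 fun z hz => by
        rw [SetLike.mem_coe, ← hgenE e he he1] at hz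
        obtain ⟨k, rfl⟩ := mem_zpowers_iff.1 hz
        exact ((show Commute e g from hcomm).zpow_left k).eq))
      (r := 2) hΓcop (M := Y) (fun v => Subtype.ext (by simpa using hMexp v (hYM v.2)))
    have hfU1 : Cfsg.Lib.Char.FrobFixed.fixCard Uf Y = 1 := by
      rw [Cfsg.Lib.Char.FrobFixed.fixCard]
      exact Nat.card_eq_one_iff_unique.2 ⟨⟨fun a b => Subtype.ext ((hfixU a a.2).trans (hfixU b b.2).symm)⟩,
        ⟨⟨1, fun k => smul_one _⟩⟩⟩
    have hfT1 : Cfsg.Lib.Char.FrobFixed.fixCard (⊤ : Subgroup Γf) Y = 1 := by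
      rw [Cfsg.Lib.Char.FrobFixed.fixCard]
      exact Nat.card_eq_one_iff_unique.2 ⟨⟨fun a b => Subtype.ext
        ((hfixU a fun k => a.2 ⟨k, mem_top _⟩).trans (hfixU b fun k => b.2 ⟨k, mem_top _⟩).symm)⟩,
        ⟨⟨1, fun k => smul_one _⟩⟩⟩
    rw [hfU1, hfT1, one_pow, one_mul, mul_one, hEcard] at hform
    have hEY : E' ≤ normalizer (Y : Set (H ⧸ Z)) := hE'L.trans hLY
    have hcopEY : (Nat.card E').Coprime (Nat.card Y) := (hcop_map _ hyT).coprime_dvd_right (card_dvd_of_le hYM)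
    have hd := Cfsg.Lib.Coprime.card_commutator_mul_card_centralizer (G := Y) (A := E') hEY hcopEY
    have hfE : Cfsg.Lib.Char.FrobFixed.fixCard Ef Y =
        Nat.card ↥(Y ⊓ centralizer (E' : Set (H ⧸ Z))) := by
      rw [Cfsg.Lib.Char.FrobFixed.fixCard]
      refine Nat.card_congr (Equiv.ofBijective
        (fun v => (⟨(v.1 : H ⧸ Z), v.1.2, mem_centralizer_iff.2 fun z hz =>
          mul_inv_eq_iff_eq_mul.1 (congrArg Subtype.val
            (v.2 ⟨f' ⟨z, hE'L hz⟩, mem_map_of_mem f' (mem_subgroupOf.2 hz)⟩))⟩ :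
          ↥(Y ⊓ centralizer (E' : Set (H ⧸ Z)))))
        ⟨fun a b hab => Subtype.ext (Subtype.ext (congrArg Subtype.val hab :)),
         fun v => ⟨⟨⟨v, v.2.1⟩, fun k => ?_⟩, rfl⟩⟩)
      obtain ⟨⟨z, hzL⟩, hz, hze⟩ := k.2
      refine Subtype.ext ?_
      rw [← hze]
      show z * (v : H ⧸ Z) * z⁻¹ = v
      rw [mem_centralizer_iff.1 v.2.2 z (mem_subgroupOf.1 hz), mul_inv_cancel_right]
    rw [hfE, hYcard] at hform
    set d := Nat.card ↥(Y ⊓ centralizer (E' : Set (H ⧸ Z))) with hd'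
    obtain ⟨i, -, hi⟩ := (Nat.dvd_prime_pow Nat.prime_two).1
      (hYcard ▸ card_dvd_of_le inf_le_left : d ∣ 2 ^ (2 * j))
    rw [hi, ← pow_mul] at hform
    have hij : i * r = 2 * j := Nat.pow_right_injective le_rfl hform.symm
    have hcomm_le : Nat.card ↥⁅Y, E'⁆ ≤ 2 ^ (2 * m) := hsizeQ ▸ card_le_of_le (commutator_mono hYM le_rfl)
    have hle : i * (r - 1) ≤ 2 * m := by
      obtain ⟨k, -, hk⟩ := (Nat.dvd_prime_pow Nat.prime_two).1
        (hYcard ▸ Dvd.intro _ hd : Nat.card ↥⁅Y, E'⁆ ∣ 2 ^ (2 * j))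
      rw [hk, hi, hYcard, ← pow_add] at hd
      have h1 : k + i = i * r := (Nat.pow_right_injective le_rfl hd).trans hij.symm
      rw [hk] at hcomm_le
      have h2 : k ≤ 2 * m := (Nat.pow_le_pow_iff_right (by norm_num)).1 hcomm_le
      rw [Nat.mul_sub_one]
      omega
    have hi0 := pow_eq_two_bound hm hrm hij hle
    subst hi0
    rw [zero_mul] at hij
    exact hYne (card_eq_one.1 (by rw [hYcard, ← hij, pow_zero]))
  -- `K` is trivial on `M`
  have hKM : ∀ k ∈ K', ∀ v ∈ M, Commute k v := fun k hk v hv =>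
    (mem_centralizer_iff.1 (commutator_eq_bot_iff_le_centralizer.1 hY1 hv) k hk)
  have hCy : M ⊓ centralizer (E' : Set (H ⧸ Z)) = ⊥ := by
    rw [eq_bot_iff, ← hCL]
    refine le_inf inf_le_left fun v hv => mem_centralizer_iff.2 fun g hg => ?_
    rw [hL, Subgroup.map_sup] at hg
    have hle : K' ⊔ E' ≤ centralizer ({v} : Set (H ⧸ Z)) := sup_le
      (fun k hk => mem_centralizer_singleton_iff.2 (hKM k hk v hv.1).eq)
      (fun k hk => mem_centralizer_singleton_iff.2 (mem_centralizer_iff.1 hv.2 k hk))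
    exact mem_centralizer_singleton_iff.1 (hle hg)
  have hMy : ⁅M, E'⁆ = M := commutator_eq_self_of_inf_eq_bot (hNM _) (hcop_map _ hyT) hCy
  have hMcard : Nat.card M = 2 ^ (2 * m) := by rw [← hMy]; exact hsizeQ
  haveI : Nontrivial M := by
    rw [nontrivial_iff_ne_bot]
    intro e
    rw [e, card_bot] at hMcard
    have : 1 < 2 ^ (2 * m) := Nat.one_lt_two_pow (by omega)
    omega
  letI : CommGroup M := { (inferInstance : Group M) with mul_comm := fun a b => hMc.is_comm.comm a b }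
  -- the form
  have hlift : ∀ v : M, ∃ x ∈ T, π x = v := fun v => v.2
  choose lift hliftT hlifte using hlift
  have hcz : ∀ a ∈ T, ∀ b ∈ T, ⁅a, b⁆ ∈ center H := fun a ha b hb =>
    mem_center_iff.2 fun g => (hs.central hρ ha hb g).symm
  letI : CommGroup (center H) := { (inferInstance : Group (center H)) with
    mul_comm := fun a b => Subtype.ext (mem_center_iff.1 b.2 a) }
  let B : Additive M → Additive M → center H := fun a b =>
    ⟨⁅lift a.toMul, lift b.toMul⁆, hcz _ (hliftT _) _ (hliftT _)⟩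
  have hindep : ∀ a b a', a ∈ T → b ∈ T → a' ∈ T → π a = π a' → ⁅a, b⁆ = ⁅a', b⁆ := by
    intro a b a' ha hb ha' he'
    have hz : a'⁻¹ * a ∈ Z := QuotientGroup.eq.1 he'.symm
    rw [show a = a' * (a'⁻¹ * a) by group, hs.mul_left hρ ha' hz.1 hb,
      commutatorElement_eq_one_iff_mul_comm.2 (mem_centralizer_iff.1 hz.2 b hb).symm, mul_one]
  have hindep2 : ∀ a b a' b', a ∈ T → b ∈ T → a' ∈ T → b' ∈ T → π a = π a' → π b = π b' →
      ⁅a, b⁆ = ⁅a', b'⁆ := by
    intro a b a' b' ha hb ha' hb' e1 e2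
    rw [hindep a b a' ha hb ha' e1, ← commutatorElement_inv b a', hindep b a' b' hb ha' hb' e2,
      commutatorElement_inv]
  have hBval : ∀ (a b : Additive M) (x z : H), x ∈ T → z ∈ T → π x = (a.toMul : H ⧸ Z) →
      π z = (b.toMul : H ⧸ Z) → ((B a b : center H) : H) = ⁅x, z⁆ := fun a b x z hx hz e1 e2 =>
    hindep2 _ _ _ _ (hliftT _) (hliftT _) hx hz ((hlifte _).trans e1.symm) ((hlifte _).trans e2.symm)
  have hmulT : ∀ a b : M, π (lift a * lift b) = ((a * b : M) : H ⧸ Z) := fun a b => by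
    rw [map_mul, hlifte, hlifte]; rfl
  have hadd : ∀ x y' z, B (x + y') z = B x z * B y' z := fun x y' z => Subtype.ext (by
    rw [hBval (x + y') z (lift x.toMul * lift y'.toMul) (lift z.toMul) (mul_mem (hliftT _) (hliftT _)) (hliftT _)
      (hmulT _ _) (hlifte _), hs.mul_left hρ (hliftT _) (hliftT _) (hliftT _)]
    rfl)
  have hswap : ∀ a b, B a b = (B b a)⁻¹ := fun a b => Subtype.ext (commutatorElement_inv _ _).symm
  have hadd' : ∀ x y' z, B x (y' + z) = B x y' * B x z := fun x y' z => by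
    rw [hswap, hadd, mul_inv, ← hswap, ← hswap]
  have hzero : ∀ z, B 0 z = 1 := fun z => by
    have h1 := hadd 0 0 z
    rw [add_zero] at h1
    exact right_eq_mul.1 h1
  have hzero' : ∀ z, B z 0 = 1 := fun z => by rw [hswap, hzero, inv_one]
  have hnd : ∀ b, (∀ a, B a b = 1) → b = 0 := by
    intro b hb
    refine Additive.toMul.injective (Subtype.ext ?_)
    show (b.toMul : H ⧸ Z) = 1
    rw [← hlifte b.toMul]
    refine (QuotientGroup.eq_one_iff _).2 ⟨hliftT _, mem_centralizer_iff.2 fun x hx => ?_⟩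
    have h1 := congrArg Subtype.val (hb (Additive.ofMul ⟨π x, mem_map_of_mem π hx⟩))
    rw [hBval (Additive.ofMul ⟨π x, mem_map_of_mem π hx⟩) b x (lift b.toMul) hx (hliftT _) rfl (hlifte _)] at h1
    exact commutatorElement_eq_one_iff_mul_comm.1 h1
  -- conjugations as endomorphisms
  let Φ : H →* AddMonoid.End (Additive M) :=
    { toFun := fun g => MonoidHom.toAdditive ((MulAut.conjNormal (H := M) (π g)).toMonoidHom)
      map_one' := AddMonoidHom.ext fun v => by
        show Additive.ofMul ((MulAut.conjNormal (H := M) (π 1)) v.toMul) = v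
        rw [map_one, map_one]; rfl
      map_mul' := fun g g' => AddMonoidHom.ext fun v => by
        show Additive.ofMul ((MulAut.conjNormal (H := M) (π (g * g'))) v.toMul) = _
        rw [map_mul, map_mul]; rfl }
  have hΦv : ∀ g v, (((Φ g v).toMul : M) : H ⧸ Z) = π g * (v.toMul : H ⧸ Z) * (π g)⁻¹ := fun g v =>
    MulAut.conjNormal_apply _ _
  have hΦinv : ∀ g a b, B (Φ g a) (Φ g b) = B a b := fun g a b => Subtype.ext (by
    rw [hBval (Φ g a) (Φ g b) (g * lift a.toMul * g⁻¹) (g * lift b.toMul * g⁻¹) (hTn.conj_mem _ (hliftT _) g)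
      (hTn.conj_mem _ (hliftT _) g) (by rw [hΦv, map_mul, map_mul, hlifte, map_inv])
      (by rw [hΦv, map_mul, map_mul, hlifte, map_inv])]
    rw [show ⁅g * lift a.toMul * g⁻¹, g * lift b.toMul * g⁻¹⁆ = g * ⁅lift a.toMul, lift b.toMul⁆ * g⁻¹ by
      simp only [commutatorElement_def]; group,
      (mem_center_iff.1 (hcz _ (hliftT a.toMul) _ (hliftT b.toMul)) g), mul_inv_cancel_right])
  have hfree : ∀ v, Φ y v = v → v = 0 := by
    intro v hv
    refine Additive.toMul.injective (Subtype.ext (mem_bot.1 (hCy ▸ ⟨v.toMul.2, mem_centralizer_iff.2 ?_⟩)))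
    rintro _ ⟨g, hg, rfl⟩
    obtain ⟨k, rfl⟩ := mem_zpowers_iff.1 hg
    rw [map_zpow]
    refine (Commute.zpow_left ?_ k).eq
    have h1 := hΦv y v
    rw [hv] at h1
    exact mul_inv_eq_iff_eq_mul.1 h1.symm
  obtain ⟨x, hx, g, hg, hne⟩ := hmove
  have hcommΦ : Commute (Φ g) (Φ y) := by
    have h1 : Φ ⁅g, y⁆ = 1 := AddMonoidHom.ext fun v => Additive.toMul.injective (Subtype.ext (by
      refine (hΦv ⁅g, y⁆ v).trans ?_
      show _ = (v.toMul : H ⧸ Z)
      rw [(hKM _ (mem_map_of_mem π (commutator_mem_commutator hg (mem_zpowers y))) _ v.toMul.2).eq,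
        mul_inv_cancel_right]))
    calc Φ g * Φ y = Φ (⁅g, y⁆ * (y * g)) := by rw [← map_mul]; congr 1; rw [commutatorElement_def]; group
      _ = _ := by rw [map_mul, h1, one_mul, map_mul]
  have hres := unitary_pow_eq_one (V := Additive M) (C := center H)
    (fun v => Additive.toMul.injective (Subtype.ext (by
      show ((v.toMul : M) : H ⧸ Z) * (v.toMul : M) = 1
      rw [← sq]; exact hMexp _ v.toMul.2)))
    hm (hrm ▸ hr.out) (show Nat.card (Additive M) = 2 ^ (2 * m) from hMcard) B hadd hadd' hzero hzero' hnd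
    (Φ y) (Φ g) (hΦinv y) (hΦinv g) hcommΦ (by rw [← hrm, ← map_pow, hyr, map_one]) hfree
  rw [← hrm] at hres
  have h1 : Φ g = 1 := by
    have h2 : Φ g ^ orderOf g = 1 := by rw [← map_pow, pow_orderOf_eq_one, map_one]
    have h3 : (orderOf g).Coprime r := hUr.coprime_dvd_left
      (Nat.card_zpowers g ▸ card_dvd_of_le (zpowers_le.2 hg))
    have h4 := pow_gcd_eq_one.2 ⟨h2, hres⟩
    rwa [h3.gcd_eq_one, pow_one] at h4
  refine hne ?_
  have hxg : ⁅x, g⁆ ∈ T := by
    rw [commutatorElement_def, mul_assoc, mul_assoc, ← mul_assoc g]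
    exact mul_mem hx (hTn.conj_mem _ (inv_mem hx) g)
  have hz : ⁅x, g⁆ ∈ Z := by
    refine (QuotientGroup.eq_one_iff _).1 ?_
    show π ⁅x, g⁆ = 1
    rw [map_commutatorElement, commutatorElement_eq_one_iff_mul_comm]
    have h5 := hΦv g (Additive.ofMul ⟨π x, mem_map_of_mem π hx⟩)
    rw [h1] at h5
    exact (mul_inv_eq_iff_eq_mul.1 h5.symm).symm
  exact hz.2

end Cfsg.Lib.FitTwo
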