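import Cfsg.Agent.Lib.Local.HallHigmanTheoremB
import Mathlib.RingTheory.Polynomial.Cyclotomic.Roots

/-!
An element of prime order with zero norm that moves a `t`-group whose commutators and `t`-th powers are
scalars: the exceptional situation `t = 2`, `r = 2 ^ m + 1`.
-/

set_option autoImplicit false

namespace Cfsg.Lib.FitTwo

open Subgroup Cfsg.Lib.Local
open scoped commutatorElement

variable {H : Type*} [Group H] [Finite H] {F : Type*} [Field F] {V : Type*} [AddCommGroup V] [Module F V]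

/-- The commutators and `t`-th powers of a subgroup act by scalars. -/
structure Scal (ρ : H →* Module.End F V) (T : Subgroup H) (t : ℕ) : Prop where
  comm : ∀ a ∈ T, ∀ b ∈ T, ∃ c : F, ρ ⁅a, b⁆ = c • (1 : Module.End F V)
  pow : ∀ a ∈ T, ∃ c : F, ρ (a ^ t) = c • (1 : Module.End F V)

variable {ρ : H →* Module.End F V} {T : Subgroup H} {t : ℕ}

omit [Finite H] in
theorem central_of_scalar (hρ : Function.Injective ρ) {g : H} {c : F} (h : ρ g = c • (1 : Module.End F V))
    (x : H) : g * x = x * g := hρ (by rw [map_mul, map_mul, h, smul_mul_assoc, mul_smul_comm, one_mul, mul_one])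

omit [Finite H] in
theorem Scal.central (hs : Scal ρ T t) (hρ : Function.Injective ρ) {a b : H} (ha : a ∈ T) (hb : b ∈ T) (x : H) :
    ⁅a, b⁆ * x = x * ⁅a, b⁆ :=
  (hs.comm a ha b hb).elim fun _ h => central_of_scalar hρ h x

omit [Finite H] in
theorem Scal.mul_left (hs : Scal ρ T t) (hρ : Function.Injective ρ) {a b c : H} (_ha : a ∈ T) (hb : b ∈ T)
    (hc : c ∈ T) : ⁅a * b, c⁆ = ⁅a, c⁆ * ⁅b, c⁆ := by
  rw [show ⁅a * b, c⁆ = a * ⁅b, c⁆ * a⁻¹ * ⁅a, c⁆ by simp only [commutatorElement_def]; group,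
    ← hs.central hρ hb hc a, mul_inv_cancel_right, hs.central hρ hb hc]

omit [Finite H] in
/-- Fixed points of a normalising subgroup commute with its commutator. -/
theorem Scal.orth (hs : Scal ρ T t) (hρ : Function.Injective ρ) {L : Subgroup H}
    (hL : L ≤ normalizer (T : Set H)) {c : H} (hc : c ∈ T) (hcL : c ∈ centralizer (L : Set H)) :
    ⁅T, L⁆ ≤ T ⊓ centralizer ({c} : Set H) := by
  refine commutator_le.2 fun x hx g hg => ?_
  have hxg : g * x⁻¹ * g⁻¹ ∈ T :=
    Cfsg.Lib.Coprime.conj_mem_of_mem_normalizer (hL hg) (inv_mem hx)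
  have e : ⁅x, g⁆ = x * (g * x⁻¹ * g⁻¹) := by rw [commutatorElement_def]; group
  refine ⟨by rw [e]; exact mul_mem hx hxg, mem_centralizer_singleton_iff.2 ?_⟩
  refine commutatorElement_eq_one_iff_mul_comm.1 ?_
  have hgc : g * c * g⁻¹ = c := mul_inv_eq_iff_eq_mul.2 (mem_centralizer_iff.1 hcL g hg)
  have h1 : ⁅g * x⁻¹ * g⁻¹, c⁆ = ⁅x⁻¹, c⁆ := by
    calc ⁅g * x⁻¹ * g⁻¹, c⁆ = ⁅g * x⁻¹ * g⁻¹, g * c * g⁻¹⁆ := by rw [hgc]
      _ = g * ⁅x⁻¹, c⁆ * g⁻¹ := by simp only [commutatorElement_def]; group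
      _ = ⁅x⁻¹, c⁆ * g * g⁻¹ := by rw [hs.central hρ (inv_mem hx) hc g]
      _ = _ := by group
  rw [e, hs.mul_left hρ hx hxg hc, h1, ← hs.mul_left hρ hx (inv_mem hx) hc, mul_inv_cancel,
    commutatorElement_one_left]

/-- An element of prime order and zero norm centralises the abelian coprime subgroups it normalises. -/
theorem commute_of_norm {ρ : H →* Module.End F V} (hρ : Function.Injective ρ) {r : ℕ} [hr : Fact r.Prime]
    {y : H} (hyr : y ^ r = 1) (hN : ∑ i ∈ Finset.range r, ρ y ^ i = 0) {B : Subgroup H}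
    [ht : Fact t.Prime] (htF : (t : F) ≠ 0) (htr : t ≠ r) (hB : IsPGroup t B)
    (hab : ∀ a ∈ B, ∀ b ∈ B, a * b = b * a) (hyB : ∀ a ∈ B, y * a * y⁻¹ ∈ B) :
    ∀ a ∈ B, y * a * y⁻¹ = a := by
  by_contra hcon
  push Not at hcon
  let ρ' : H →* MulAut (Multiplicative V) :=
    { toFun := fun g =>
        { toFun := fun v => Multiplicative.ofAdd (ρ g v.toAdd)
          invFun := fun v => Multiplicative.ofAdd (ρ g⁻¹ v.toAdd)
          left_inv := fun v => by
            show Multiplicative.ofAdd (ρ g⁻¹ (ρ g v.toAdd)) = v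
            rw [← Module.End.mul_apply, ← map_mul, inv_mul_cancel, map_one]; rfl
          right_inv := fun v => by
            show Multiplicative.ofAdd (ρ g (ρ g⁻¹ v.toAdd)) = v
            rw [← Module.End.mul_apply, ← map_mul, mul_inv_cancel, map_one]; rfl
          map_mul' := fun v w => by
            show Multiplicative.ofAdd (ρ g (v.toAdd + w.toAdd)) = _
            rw [map_add]; rfl }
      map_one' := MulEquiv.ext fun v => by
        show Multiplicative.ofAdd (ρ 1 v.toAdd) = v
        rw [map_one]; rfl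
      map_mul' := fun g g' => MulEquiv.ext fun v => by
        show Multiplicative.ofAdd (ρ (g * g') v.toAdd) = _
        rw [map_mul]; rfl }
  have hρ' : Function.Injective ρ' := fun g g' e => hρ (LinearMap.ext fun v =>
    congrArg (fun f : MulAut (Multiplicative V) => (f (Multiplicative.ofAdd v)).toAdd) e)
  obtain ⟨e, he⟩ := IsPGroup.iff_card.1 hB
  have hord : orderOf y = r ^ (0 + 1) := by
    rw [zero_add, pow_one]
    refine orderOf_eq_prime hyr fun e1 => ?_
    obtain ⟨a, _, ha⟩ := hcon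
    exact ha (by rw [e1]; simp)
  obtain ⟨v, hv⟩ := exists_norm_ne_one' ρ' hρ' B (fun v d hd hvd => by
      obtain ⟨e', -, rfl⟩ := (Nat.dvd_prime_pow ht.out).1 (he ▸ hd)
      have h1 := congrArg Multiplicative.toAdd hvd
      rw [toAdd_pow, toAdd_one, ← Nat.cast_smul_eq_nsmul F, Nat.cast_pow] at h1
      exact Multiplicative.toAdd.injective ((smul_eq_zero.1 h1).resolve_left (pow_ne_zero _ htF)))
    hab (by rw [he]; exact ((Nat.coprime_primes ht.out hr.out).2 htr).pow_left e) y hyB 0 hord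
    (by simpa using hcon)
  refine hv (Multiplicative.toAdd.injective ?_)
  rw [toAdd_prod, toAdd_one, zero_add, pow_one]
  have := congrArg (fun f : Module.End F V => f v.toAdd) hN
  simp only [LinearMap.sum_apply, LinearMap.zero_apply, ← map_pow] at this
  exact this

/-- The exceptional situation. -/
theorem exceptional [IsAlgClosed F] [FiniteDimensional F V] (hρ : Function.Injective ρ) (hs : Scal ρ T t)
    [ht : Fact t.Prime] (hT : IsPGroup t T) (htF : (t : F) ≠ 0) {r : ℕ} [hr : Fact r.Prime] (hrF : (r : F) ≠ 0)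
    (htr : t ≠ r) {y : H} (hyr : y ^ r = 1) (hyT : ∀ a ∈ T, y * a * y⁻¹ ∈ T)
    (hN : ∑ i ∈ Finset.range r, ρ y ^ i = 0) (hmove : ∃ a ∈ T, y * a * y⁻¹ ≠ a) :
    t = 2 ∧ ∃ m, 0 < m ∧ r = 2 ^ m + 1 ∧
      (centralizer ((⁅T, zpowers y⁆ : Subgroup H) : Set H)).relIndex ⁅T, zpowers y⁆ = 2 ^ (2 * m) := by
  classical
  set Q0 := ⁅T, zpowers y⁆ with hQ0
  have hyN : zpowers y ≤ normalizer (T : Set H) := by
    refine zpowers_le.2 (mem_normalizer_iff_map_conj_eq.2
      (eq_of_le_of_card_ge ?_ (card_map_of_injective (MulAut.conj y).injective).ge))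
    rintro _ ⟨a, ha, rfl⟩
    exact hyT a ha
  have hy1 : y ≠ 1 := fun e => hmove.elim fun a ha => ha.2 (by rw [e]; simp)
  have hord : orderOf y = r := orderOf_eq_prime hyr hy1
  have hcopT : (Nat.card (zpowers y)).Coprime (Nat.card T) := by
    obtain ⟨e, he⟩ := IsPGroup.iff_card.1 hT
    rw [Nat.card_zpowers, hord, he]
    exact ((Nat.coprime_primes hr.out ht.out).2 htr.symm).pow_right e
  have hsol : Group.IsSolvable ↥(zpowers y) ∨ Group.IsSolvable T :=
    Or.inr (have := hT.isNilpotent; IsNilpotent.to_isSolvable)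
  have hQT : Q0 ≤ T := Cfsg.Lib.Coprime.commutator_le_of_le_normalizer hyN
  have hQy : ∀ g ∈ zpowers y, ∀ a ∈ Q0, g * a * g⁻¹ ∈ Q0 := by
    intro g hg a ha
    have h1 : (⁅T, zpowers y⁆).map (MulAut.conj g).toMonoidHom = Q0 := by
      have e1 : T.map (MulAut.conj g).toMonoidHom = T := mem_normalizer_iff_map_conj_eq.1 (hyN hg)
      have e2 : (zpowers y).map (MulAut.conj g).toMonoidHom = zpowers y :=
        mem_normalizer_iff_map_conj_eq.1 (le_normalizer hg)
      rw [map_commutator, e1, e2]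
    exact h1.le (mem_map_of_mem (MulAut.conj g).toMonoidHom ha)
  -- a central element of `Q0` is central in `T`
  have hcenT : ∀ a ∈ Q0, (∀ b ∈ Q0, a * b = b * a) → ∀ b ∈ T, a * b = b * a := by
    intro a ha hab b hb
    obtain ⟨n, hn, c, hc, rfl⟩ := Cfsg.Lib.Coprime.le_commutator_sup_centralizer hyN hcopT hsol hb
    have h2 : a * c = c * a := mem_centralizer_singleton_iff.1 (hs.orth hρ hyN hc.1 hc.2 ha).2
    calc a * (n * c) = a * n * c := (mul_assoc _ _ _).symm
      _ = n * a * c := by rw [hab n hn]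
      _ = n * c * a := by rw [mul_assoc, h2, ← mul_assoc]
  have hZfix : ∀ a ∈ T, (∀ b ∈ T, a * b = b * a) → y * a * y⁻¹ = a := fun a ha hab =>
    commute_of_norm hρ hyr hN htF htr (B := T ⊓ centralizer (T : Set H)) (hT.to_le inf_le_left)
      (fun c hc d hd => (mem_centralizer_iff.1 hd.2 c hc.1)) (fun c hc => ⟨hyT c hc.1, mem_centralizer_iff.2
        fun d hd => by
          have hd' : y⁻¹ * d * y ∈ T := by
            simpa using Cfsg.Lib.Coprime.conj_mem_of_mem_normalizer (inv_mem (hyN (mem_zpowers y))) hd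
          calc d * (y * c * y⁻¹) = y * ((y⁻¹ * d * y) * c) * y⁻¹ := by group
            _ = y * (c * (y⁻¹ * d * y)) * y⁻¹ := by rw [mem_centralizer_iff.1 hc.2 _ hd']
            _ = _ := by group⟩) a
      ⟨ha, mem_centralizer_iff.2 fun b hb => (hab b hb).symm⟩
  have hQP : IsPGroup t Q0 := hT.to_le hQT
  have hQ0moved : ∃ a ∈ Q0, y * a * y⁻¹ ≠ a := by
    by_contra hcon
    push Not at hcon
    obtain ⟨a, ha, hne⟩ := hmove
    obtain ⟨n, hn, c, hc, rfl⟩ := Cfsg.Lib.Coprime.le_commutator_sup_centralizer hyN hcopT hsol ha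
    refine hne ?_
    calc y * (n * c) * y⁻¹ = (y * n * y⁻¹) * ((y * c) * y⁻¹) := by group
      _ = n * c := by rw [hcon n hn, mem_centralizer_iff.1 hc.2 y (mem_zpowers y), mul_inv_cancel_right]
  have hmm : MinimalMoved Q0 (zpowers y) y t := by
    refine ⟨hQP, hQy, hQ0moved, ?_, ?_, fun _ a ha hab => hZfix a (hQT ha) (hcenT a ha hab),
      mem_zpowers y, fun g hg => ?_, ?_⟩
    · exact Cfsg.Lib.Coprime.commutator_commutator_eq hyN hcopT hsol
    · intro a ha
      have hle : (frattini Q0).map Q0.subtype ≤ centralizer ({y} : Set H) := by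
        rw [Cfsg.Lib.PGroup.frattini_eq_sup hQP, Subgroup.map_sup]
        refine sup_le ?_ ?_
        · rw [_root_.commutator_def, map_commutator, ← MonoidHom.range_eq_map, range_subtype]
          exact commutator_le.2 fun a ha b hb =>
            mem_centralizer_singleton_iff.2 (hs.central hρ (hQT ha) (hQT hb) y)
        · rw [MonoidHom.map_closure, closure_le]
          rintro _ ⟨_, ⟨g, rfl⟩, rfl⟩
          obtain ⟨c, hc⟩ := hs.pow g (hQT g.2)
          exact mem_centralizer_singleton_iff.2 (central_of_scalar hρ (g := (g : H) ^ t) (c := c) hc y)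
      have := mem_centralizer_singleton_iff.1 (hle ha)
      rw [← this, mul_inv_cancel_right]
    · obtain ⟨k, rfl⟩ := mem_zpowers_iff.1 hg
      exact ((Commute.refl y).zpow_left k).eq
    · rw [hord]; exact (Nat.coprime_primes hr.out ht.out).2 htr.symm
  have hna : ∃ a ∈ Q0, ∃ b ∈ Q0, a * b ≠ b * a := by
    by_contra hcon
    push Not at hcon
    obtain ⟨a, ha, hne⟩ := hQ0moved
    exact hne (commute_of_norm hρ hyr hN htF htr hQP hcon (hQy y (mem_zpowers y)) a ha)
  obtain ⟨ψ, hc⟩ := exists_isComponent ρ hρ hmm hna htF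
  obtain ⟨ω, hω⟩ : ∃ ω : F, IsPrimitiveRoot ω r := by
    obtain ⟨ω, hω⟩ := IsAlgClosed.exists_root (Polynomial.cyclotomic r F)
      (Polynomial.degree_cyclotomic_pos r F hr.out.pos).ne'
    haveI : NeZero (r : F) := ⟨hrF⟩
    exact ⟨ω, Polynomial.isRoot_cyclotomic_iff.1 hω⟩
  set L := (primitiveRoots r F).toList with hL
  have hLlen : L.length = r - 1 := by
    rw [hL, Finset.length_toList, hω.card_primitiveRoots, Nat.totient_prime hr.out]
  have hprod : (L.map fun a => ρ y - a • (1 : Module.End F V)).prod = 0 := by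
    have h1 : Polynomial.aeval (ρ y) (L.map fun a => Polynomial.X - Polynomial.C a).prod = 0 := by
      have h2 : (L.map fun a => Polynomial.X - Polynomial.C a).prod = Polynomial.cyclotomic r F := by
        rw [hL, Finset.prod_map_toList, Polynomial.cyclotomic_eq_prod_X_sub_primitiveRoots hω]
      rw [h2, Polynomial.cyclotomic_prime, map_sum, ← hN]
      exact Finset.sum_congr rfl fun i _ => by simp
    rw [map_list_prod, List.map_map] at h1
    rw [← h1]
    congr 1
    refine List.map_congr_left fun a _ => ?_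
    simp [Algebra.algebraMap_eq_smul_one]
  obtain ⟨m, hm0, hrel, -, hle⟩ := component_bound hmm hna hc htF htr (z := y) (f := 0)
    (mem_zpowers y) (by simp) (by simpa using hyr)
    (fun a ha => by rw [hmm.center_fixed hna a ha])
    (fun v _ => by
      have := congrArg (fun f : Module.End F V => f v) hN
      simpa [LinearMap.sum_apply] using this)
    L (fun v _ => by rw [hprod]; rfl)
  rw [hLlen, zero_add, pow_one] at hle
  obtain ⟨m', hm', hrel', hdvd', -⟩ := component_bound hmm hna hc htF htr (z := y) (f := 0)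
    (mem_zpowers y) (by simp) (by simpa using hyr)
    (fun a ha => by rw [hmm.center_fixed hna a ha])
    (fun v _ => by
      have := congrArg (fun f : Module.End F V => f v) hN
      simpa [LinearMap.sum_apply] using this)
    L (fun v _ => by rw [hprod]; rfl)
  rw [hrel] at hrel'
  have hmm' : m' = m := by have := Nat.pow_right_injective ht.out.two_le hrel'; omega
  subst hmm'
  rw [zero_add, pow_one] at hdvd'
  have hrad : radical hmm hc = Q0 ⊓ centralizer (Q0 : Set H) := by
    ext c
    rw [mem_radical, Subgroup.mem_inf]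
    refine and_congr_right fun hcQ => ⟨fun h => mem_centralizer_iff.2 fun d hd => ?_, fun h d hd => ?_⟩
    · obtain ⟨s, hs'⟩ := hs.comm c (hQT hcQ) d (hQT hd)
      obtain ⟨v, hv, hv0⟩ := Submodule.exists_mem_ne_zero_of_ne_bot hc.occurs
      have h1 := mem_eigenOf.1 hv _ (hmm.commutator_mem_center hcQ hd)
      rw [h d hd, hs', LinearMap.smul_apply, Module.End.one_apply] at h1
      have hs1 : s = 1 := smul_left_injective F hv0 h1
      refine (commutatorElement_eq_one_iff_mul_comm.1 (hρ ?_)).symm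
      rw [hs', hs1, one_smul, map_one]
    · rw [commutatorElement_eq_one_iff_mul_comm.2 (mem_centralizer_iff.1 h d hd).symm, eigen_one hc.occurs]
  rw [hrad, inf_relIndex_left] at hrel
  -- arithmetic
  obtain ⟨hd1, hd2⟩ := hdvd'
  have ht2 := ht.out.two_le
  have hr2 := hr.out.two_le
  have hle' : t ^ (2 * m') ≤ (r - 1) ^ 2 := by
    obtain ⟨k, hk⟩ : ∃ k, r = k + 1 := ⟨r - 1, by omega⟩
    subst hk
    simp only [Nat.add_sub_cancel] at hle ⊢
    rw [sq]
    have e : (k + 1) * t ^ (2 * m') ≤ k * k + k * t ^ (2 * m') := by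
      calc (k + 1) * t ^ (2 * m') = t ^ (2 * m') * (k + 1) := mul_comm _ _
        _ ≤ k * (k + t ^ (2 * m')) := hle
        _ = _ := by ring
    rw [add_mul, one_mul] at e
    omega
  have hle2 : t ^ m' ≤ r - 1 := by
    rw [mul_comm 2 m', pow_mul] at hle'
    exact (Nat.pow_le_pow_iff_left two_ne_zero).1 hle'
  have hgt : 1 < t ^ m' := Nat.one_lt_pow (by omega) (by omega)
  have hrt : r = t ^ m' + 1 := by
    rcases hd2 with h | h
    · have := Nat.le_of_dvd (by omega) h; omega
    · have := Nat.le_of_dvd (by omega) h; omega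
  have ht2' : t = 2 := by
    rcases ht.out.eq_two_or_odd' with h | h
    · exact h
    · have : Even r := by rw [hrt]; exact (h.pow).add_one
      have := (hr.out.eq_two_or_odd').resolve_right (fun h' => (Nat.not_even_iff_odd.2 h') this)
      omega
  subst ht2'
  exact ⟨rfl, m', hm', hrt, hrel⟩

/-- The centre of a subgroup of `T` has square index. -/
theorem square [IsAlgClosed F] [Nontrivial V] (hρ : Function.Injective ρ) (hs : Scal ρ T t)
    [ht : Fact t.Prime] (htF : (t : F) ≠ 0) {S : Subgroup H} (hST : S ≤ T) :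
    ∃ j, (centralizer (S : Set H)).relIndex S = t ^ (2 * j) := by
  classical
  by_cases hall : ∀ a ∈ S, ∀ b ∈ S, a * b = b * a
  · exact ⟨0, by rw [Nat.mul_zero, pow_zero, relIndex_eq_one]; exact fun a ha =>
      mem_centralizer_iff.2 fun b hb => hall b hb a ha⟩
  push Not at hall
  obtain ⟨a0, ha0, b0, hb0, hne⟩ := hall
  have hpow : ∀ a ∈ S, ∀ b ∈ S, ⁅a, b⁆ ^ t = 1 := by
    intro a ha b hb
    have h1 : ∀ n : ℕ, ⁅a ^ n, b⁆ = ⁅a, b⁆ ^ n := by
      intro n
      induction n with
      | zero => simp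
      | succ n ih =>
        rw [pow_succ, hs.mul_left hρ (pow_mem (hST ha) n) (hST ha) (hST hb), ih, pow_succ]
    rw [← h1, commutatorElement_eq_one_iff_mul_comm]
    obtain ⟨c, hc⟩ := hs.pow a (hST ha)
    exact central_of_scalar hρ hc b
  let Z : Subgroup H :=
    { carrier := {g | g ^ t = 1 ∧ ∃ c : F, ρ g = c • (1 : Module.End F V)}
      one_mem' := ⟨one_pow _, 1, by rw [map_one, one_smul]⟩
      mul_mem' := fun {g g'} hg hg' => ⟨by
          obtain ⟨c, hc⟩ := hg.2
          rw [Commute.mul_pow (central_of_scalar hρ hc g'), hg.1, hg'.1, one_mul], by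
          obtain ⟨c, hc⟩ := hg.2
          obtain ⟨c', hc'⟩ := hg'.2
          exact ⟨c * c', by rw [map_mul, hc, hc', smul_mul_smul_comm, one_mul]⟩⟩
      inv_mem' := fun {g} hg => ⟨by rw [inv_pow, hg.1, inv_one], by
          obtain ⟨c, hc⟩ := hg.2
          refine ⟨c⁻¹, ?_⟩
          have h1 : ρ g⁻¹ * ρ g = 1 := by rw [← map_mul, inv_mul_cancel, map_one]
          rw [hc, mul_smul_comm, mul_one] at h1
          have hc0 : c ≠ 0 := fun e => by rw [e, zero_smul] at h1; exact one_ne_zero h1.symm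
          rw [← h1, smul_smul, inv_mul_cancel₀ hc0, one_smul]⟩ }
  have hz0 : ⁅a0, b0⁆ ∈ Z := ⟨hpow a0 ha0 b0 hb0, hs.comm a0 (hST ha0) b0 (hST hb0)⟩
  have hz1 : ⁅a0, b0⁆ ≠ 1 := fun e => hne (commutatorElement_eq_one_iff_mul_comm.1 e)
  choose c hc using fun g : Z => g.2.2
  let f : Z → {x // x ∈ Polynomial.nthRootsFinset t (1 : F)} := fun g => ⟨c g, by
    rw [Polynomial.mem_nthRootsFinset ht.out.pos]
    have h1 := congrArg ρ g.2.1
    rw [map_pow, map_one, hc g, smul_pow, one_pow] at h1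
    by_contra hne'
    have h2 : ((c g) ^ t - 1) • (1 : Module.End F V) = 0 := by rw [sub_smul, h1, one_smul, sub_self]
    exact one_ne_zero ((smul_eq_zero.1 h2).resolve_left (sub_ne_zero.2 hne'))⟩
  have hf : Function.Injective f := fun g g' e => Subtype.ext (hρ (by
    rw [hc g, hc g', show c g = c g' from congrArg Subtype.val e]))
  have hZle : Nat.card Z ≤ t := by
    refine (Nat.card_le_card_of_injective f hf).trans ?_
    rw [Nat.card_eq_fintype_card, Fintype.card_coe, Polynomial.nthRootsFinset_def]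
    exact (Multiset.toFinset_card_le _).trans (Polynomial.card_nthRoots t 1)
  have hZge : t ≤ Nat.card Z := by
    rw [← orderOf_eq_prime (hpow a0 ha0 b0 hb0) hz1, ← Nat.card_zpowers]
    exact Nat.le_of_dvd Nat.card_pos (card_dvd_of_le (zpowers_le.2 hz0))
  obtain ⟨j, hj⟩ := exists_relIndex_eq_sq (q := t) (⊥ : Subgroup H) Z
    (fun z hz k hk => by rw [mem_bot.1 hk, mul_one, one_mul])
    (by rw [relIndex_bot_left]; omega) S
    (fun a ha b hb => ⟨hpow a ha b hb, hs.comm a (hST ha) b (hST hb)⟩)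
    (fun a ha b hb c' hc' => hs.mul_left hρ (hST ha) (hST hb) (hST hc')) (S ⊓ centralizer (S : Set H)) inf_le_left
    (fun a ha => ⟨fun h c' hc' => by
        rw [mem_bot, commutatorElement_eq_one_iff_mul_comm]
        exact (mem_centralizer_iff.1 h.2 c' hc').symm,
      fun h => ⟨ha, mem_centralizer_iff.2 fun c' hc' =>
        (commutatorElement_eq_one_iff_mul_comm.1 (mem_bot.1 (h c' hc'))).symm⟩⟩)
  exact ⟨j, by rw [← inf_relIndex_left]; exact hj⟩

end Cfsg.Lib.FitTwo
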