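import Cfsg.Agent.Lib.FitTwo.Config
import Cfsg.Agent.Lib.FitTwo.Endgame
import Cfsg.Agent.Lib.FitTwo.Rep

/-!
The minimal configuration has no faithful representation in which `A` has zero norm.
-/

set_option autoImplicit false

namespace Cfsg.Lib.FitTwo

open Subgroup Cfsg.Lib.Local
open scoped commutatorElement

universe w

variable {Γ : Type w} [Group Γ] [Finite Γ] {A Q T U : Subgroup Γ} {p q t u : ℕ}

/-- `⁅U, S⁆` and `S` generate a group of order prime to `t`. -/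
theorem Cfg.coprime_KS (h : Cfg A Q T U p q t u) {S : Subgroup Γ} (hS : S ≤ A) :
    (Nat.card ↥(⁅U, S⁆ ⊔ S)).Coprime (Nat.card T) := by
  have hKU : ⁅U, S⁆ ≤ U := Cfsg.Lib.Coprime.commutator_le_of_le_normalizer (hS.trans h.AU)
  have hd : Disjoint ⁅U, S⁆ S := Disjoint.mono hKU hS (Cfsg.Lib.Coprime.disjoint_of_coprime_card h.cop_U.symm)
  rw [Cfsg.Lib.Coprime.card_sup_of_disjoint (Subgroup.normalizer_commutator_ge_right U S) hd]
  exact Nat.Coprime.mul_left (h.cop_TU.coprime_dvd_left (card_dvd_of_le hKU))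
    (h.cop_T.coprime_dvd_left (card_dvd_of_le hS))

/-- `⁅U, S⁆` and `S` generate a group moving all of `T`. -/
theorem Cfg.commutator_KS (h : Cfg A Q T U p q t u) {S : Subgroup Γ} (hS : S ≤ A) (hSp : (Nat.card S).Prime) :
    ⁅T, ⁅U, S⁆ ⊔ S⁆ = T := by
  haveI := h.T_normal
  have hN : ∀ L : Subgroup Γ, L ≤ normalizer (T : Set Γ) := fun L => by rw [normalizer_eq_top]; exact le_top
  refine h.sup_Phi_eq (Cfsg.Lib.Coprime.commutator_le_of_le_normalizer (hN _))
    (le_antisymm (sup_le (Cfsg.Lib.Coprime.commutator_le_of_le_normalizer (hN _)) (Cfg.Phi_le T)) fun x hx => ?_)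
  obtain ⟨n, hn, c, hc, rfl⟩ :=
    Cfsg.Lib.Coprime.le_commutator_sup_centralizer (hN _) (h.coprime_KS hS) (Or.inr h.isSolvable_T) hx
  exact mul_mem (mem_sup_left hn) (mem_sup_right (h.fix_le hS hSp
    ⟨⟨hc.1, centralizer_le (show ((⁅U, S⁆ : Subgroup Γ) : Set Γ) ⊆ _ from fun _ => mem_sup_left) hc.2⟩,
      centralizer_le (show ((S : Subgroup Γ) : Set Γ) ⊆ _ from fun _ => mem_sup_right) hc.2⟩))

variable {F : Type*} [Field F] {V : Type*} [AddCommGroup V] [Module F V] {ρ : Γ →* Module.End F V}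

/-- The case of an abelian `T`. -/
theorem no_config_abelian (h : Cfg A Q T U p q t u) [IsAlgClosed F] [FiniteDimensional F V] [Fintype A]
    (hρT : ∀ x ∈ T, ρ x = 1 → x = 1) (htF : (t : F) ≠ 0) (hN : ∑ a : A, ρ (a : Γ) = 0)
    (hab : ∀ a ∈ T, ∀ b ∈ T, a * b = b * a) : False := by
  haveI := Fact.mk h.tprime
  haveI := h.T_normal
  haveI : Nontrivial T := (nontrivial_iff_ne_bot T).2 h.Tne
  obtain ⟨e, he⟩ := IsPGroup.iff_card.1 h.hT
  obtain ⟨x, hx⟩ := exists_prime_orderOf_dvd_card' (G := T) t (by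
    rcases Nat.eq_zero_or_pos e with rfl | h0
    · rw [pow_zero] at he
      exact absurd (card_eq_one.1 he) h.Tne
    · exact he ▸ dvd_pow_self t h0.ne')
  rw [← orderOf_coe] at hx
  have hρx : ρ x ≠ 1 := fun e1 => h.tprime.ne_one (by rw [← hx, hρT x x.2 e1, orderOf_one])
  obtain ⟨ψ, hψ, hψx⟩ := exists_eigen (ρ := ρ) hab x.2 (hx ▸ pow_orderOf_eq_one (x : Γ)) htF hρx
  have hTF : (Nat.card T : F) ≠ 0 := natCard_cast_ne_zero htF h.hT
  have hNT : ∀ g : Γ, g ∈ normalizer (T : Set Γ) := fun g => by rw [normalizer_eq_top]; exact mem_top _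
  obtain ⟨y, hyA, hy1, hyF, -, -⟩ :=
    exists_stab h.pq h.AT h.cop_T h.cT hab hTF hN hψ ⟨x, x.2, hψx⟩
  haveI : IsMulCommutative T := ⟨⟨fun a b => Subtype.ext (hab _ a.2 _ b.2)⟩⟩
  have hgen : ⁅T, A⁆ = T := commutator_eq_self_of_inf_eq_bot h.AT h.cop_T h.cT
  have hall : ∀ n ∈ U, n⁻¹ * y * n ∈ fixer T ψ := by
    intro n hn
    have hne : ∃ z ∈ T, translate n ψ z ≠ 1 := by
      refine ⟨n * x * n⁻¹, Cfsg.Lib.Coprime.conj_mem_of_mem_normalizer (hNT n) x.2, ?_⟩
      simpa [translate, mul_assoc] using hψx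
    obtain ⟨y', hy'A, hy'1, hy'F, -, -⟩ :=
      exists_stab h.pq h.AT h.cop_T h.cT hab hTF hN (eigen_translate_ne_bot (hNT n) hψ) hne
    refine (mem_fixer_translate (hNT n)).1 ?_
    by_cases heq : zpowers y = zpowers y'
    · exact (zpowers_le.2 hy'F) (heq ▸ mem_zpowers y)
    · exfalso
      obtain ⟨m, hm, hA⟩ := exists_fixed_translate h.pq h.AU h.cop_U h.UT (zpowers_le.2 hyA)
        (zpowers_le.2 hy'A) (h.pq.prime_zpowers hyA hy1) (h.pq.prime_zpowers hy'A hy'1) heq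
        (zpowers_le.2 hyF) hn (zpowers_le.2 hy'F)
      have h1 := trivial_of_fixed hab (eigen_translate_ne_bot (hNT m) hψ) hgen hA (m * x * m⁻¹)
        (Cfsg.Lib.Coprime.conj_mem_of_mem_normalizer (hNT m) x.2)
      exact hψx (by simpa [translate, mul_assoc] using h1)
  have hK : ⁅U, zpowers y⁆ ≤ fixer T ψ := commutator_le.2 fun n hn s hs => by
    obtain ⟨k, rfl⟩ := mem_zpowers_iff.1 hs
    have h1 : n * y ^ k * n⁻¹ ∈ fixer T ψ := by
      have := zpow_mem (hall n⁻¹ (inv_mem hn)) k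
      rwa [inv_inv, conj_zpow] at this
    rw [commutatorElement_def]
    exact mul_mem h1 (inv_mem (zpow_mem hyF k))
  exact hψx (trivial_of_fixed hab hψ
    (h.commutator_KS (zpowers_le.2 hyA) (h.pq.prime_zpowers hyA hy1))
    (sup_le hK (zpowers_le.2 hyF)) x x.2)

/-- The endgame, pulled back along a surjection. -/
theorem endgame_surj {G : Type w} [Group G] [Finite G] {H : Type w} [Group H] [Finite H] {π : G →* H}
    (hπ : Function.Surjective π) {W : Type*} [AddCommGroup W] [Module F W] [IsAlgClosed F]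
    [FiniteDimensional F W] [Nontrivial W] {τ : G →* Module.End F W} {ρ' : H →* Module.End F W} (hρ' : Function.Injective ρ')
    (hρπ : ∀ g : G, ρ' (π g) = τ g) {T U : Subgroup G} [hTn : T.Normal] {t : ℕ}
    [Fact t.Prime] (hs : Scal τ T t) (hT : IsPGroup t T) (htF : (t : F) ≠ 0) {r : ℕ} [Fact r.Prime]
    (hrF : (r : F) ≠ 0) (htr : t ≠ r) (hUT : (Nat.card U).Coprime (Nat.card T))
    (hUr : (Nat.card U).Coprime r) {y : G}
    (hyr : y ^ r = 1) (hN : ∑ i ∈ Finset.range r, τ y ^ i = 0) (hyU : y ∈ normalizer (U : Set G))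
    (hUab : ⁅U, U⁆ ≤ centralizer (T : Set G))
    (hL : (Nat.card ↥(⁅U, zpowers y⁆ ⊔ zpowers y)).Coprime (Nat.card T))
    (hfix : ∀ x ∈ T ⊓ centralizer ((⁅U, zpowers y⁆ ⊔ zpowers y : Subgroup G) : Set G),
      ∃ c : F, τ x = c • (1 : Module.End F W))
    (hmove : ∃ x ∈ T, ∃ g ∈ U, ∃ d ∈ T, τ ⁅⁅x, g⁆, d⁆ ≠ 1) : False := by
  haveI : (T.map π).Normal := hTn.map π hπ
  have key := endgame (ρ := ρ') hρ' (T := T.map π) (U := U.map π) (t := t) (r := r) (y := π y)
  have c1 : (Nat.card (U.map π)).Coprime (Nat.card (T.map π)) :=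
    (hUT.coprime_dvd_left (card_map_dvd U π)).coprime_dvd_right (card_map_dvd T π)
  have c2 : (Nat.card (U.map π)).Coprime r := hUr.coprime_dvd_left (card_map_dvd U π)
  refine key ⟨?_, ?_⟩ (hT.map π) htF hrF htr c1 c2 ?_ ?_ ?_ ?_ ?_ ?_
  · rintro _ ⟨a, ha, rfl⟩ _ ⟨b, hb, rfl⟩
    obtain ⟨c, hc⟩ := hs.comm a ha b hb
    exact ⟨c, by rw [← map_commutatorElement, hρπ, hc]⟩
  · rintro _ ⟨a, ha, rfl⟩
    obtain ⟨c, hc⟩ := hs.pow a ha
    exact ⟨c, by rw [← map_pow, hρπ, hc]⟩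
  · rw [← map_pow, hyr, map_one]
  · rw [hρπ]; exact hN
  · exact le_normalizer_map π (mem_map_of_mem π hyU)
  · rw [← map_commutator]
    rintro _ ⟨g, hg, rfl⟩
    refine mem_centralizer_iff.2 ?_
    rintro _ ⟨x, hx, rfl⟩
    rw [← map_mul, ← map_mul, mem_centralizer_iff.1 (hUab hg) x hx]
  · set L := ⁅U, zpowers y⁆ ⊔ zpowers y with hL'
    have hTN : L ≤ normalizer (T : Set G) := by rw [normalizer_eq_top]; exact le_top
    have hLmap : L.map π = ⁅U.map π, zpowers (π y)⁆ ⊔ zpowers (π y) := by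
      rw [hL', Subgroup.map_sup, map_commutator, MonoidHom.map_zpowers]
    intro x hx
    have h1 : x ∈ T.map π ⊓ centralizer ((L.map π : Subgroup _) : Set _) := by
      refine ⟨hx.1.1, ?_⟩
      have hle : L.map π ≤ centralizer ({x} : Set _) := by
        rw [hLmap]
        exact sup_le (fun z hz => mem_centralizer_singleton_iff.2 (mem_centralizer_iff.1 hx.1.2 z hz))
          (fun z hz => mem_centralizer_singleton_iff.2 (mem_centralizer_iff.1 hx.2 z hz))
      exact mem_centralizer_iff.2 fun z hz => mem_centralizer_singleton_iff.1 (hle hz)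
    rw [← Cfsg.Lib.Coprime.map_inf_centralizer_eq π hTN hL (Or.inr (by
      haveI := hT.isNilpotent
      exact IsNilpotent.to_isSolvable))] at h1
    obtain ⟨g, hg, rfl⟩ := h1
    obtain ⟨c, hc⟩ := hfix g hg
    exact mem_centralizer_iff.2 fun z _ => (central_of_scalar hρ' (by rw [hρπ, hc]) z).symm
  · obtain ⟨x, hx, g, hg, d, hd, hne⟩ := hmove
    refine ⟨π x, mem_map_of_mem π hx, π g, mem_map_of_mem π hg, fun hcen => hne ?_⟩
    have h1 := mem_centralizer_iff.1 hcen (π d) (mem_map_of_mem π hd)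
    rw [← map_commutatorElement, eq_comm, ← commutatorElement_eq_one_iff_mul_comm, ← map_commutatorElement] at h1
    rw [← hρπ, h1, map_one]

/-- The endgame, for a representation which need not be faithful. -/
theorem endgame_ker {G : Type w} [Group G] [Finite G] {W : Type*} [AddCommGroup W] [Module F W] [IsAlgClosed F]
    [FiniteDimensional F W] [Nontrivial W] {τ : G →* Module.End F W} {T U : Subgroup G} [hTn : T.Normal] {t : ℕ}
    [Fact t.Prime] (hs : Scal τ T t) (hT : IsPGroup t T) (htF : (t : F) ≠ 0) {r : ℕ} [Fact r.Prime]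
    (hrF : (r : F) ≠ 0) (htr : t ≠ r) (hUT : (Nat.card U).Coprime (Nat.card T))
    (hUr : (Nat.card U).Coprime r) {y : G}
    (hyr : y ^ r = 1) (hN : ∑ i ∈ Finset.range r, τ y ^ i = 0) (hyU : y ∈ normalizer (U : Set G))
    (hUab : ⁅U, U⁆ ≤ centralizer (T : Set G))
    (hL : (Nat.card ↥(⁅U, zpowers y⁆ ⊔ zpowers y)).Coprime (Nat.card T))
    (hfix : ∀ x ∈ T ⊓ centralizer ((⁅U, zpowers y⁆ ⊔ zpowers y : Subgroup G) : Set G),
      ∃ c : F, τ x = c • (1 : Module.End F W))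
    (hmove : ∃ x ∈ T, ∃ g ∈ U, ∃ d ∈ T, τ ⁅⁅x, g⁆, d⁆ ≠ 1) : False := by
  refine endgame_surj (π := QuotientGroup.mk' τ.ker) (QuotientGroup.mk'_surjective _)
    (ρ' := QuotientGroup.lift τ.ker τ le_rfl) ?_ (fun g => rfl) hs hT htF hrF htr hUT hUr hyr hN hyU hUab hL
    hfix hmove
  intro a b
  induction a using QuotientGroup.induction_on with | _ a => ?_
  induction b using QuotientGroup.induction_on with | _ b => ?_
  intro hab
  refine QuotientGroup.eq.2 ?_
  rw [MonoidHom.mem_ker, map_mul, show τ b = τ a from hab.symm, ← map_mul, inv_mul_cancel, map_one]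

/-- The case of a nonabelian `T`. -/
theorem no_config_nonabelian (h : Cfg A Q T U p q t u) [IsAlgClosed F] [FiniteDimensional F V] [Fintype A]
    (hρT : ∀ x ∈ T, ρ x = 1 → x = 1) (htF : (t : F) ≠ 0) (hpF : (p : F) ≠ 0) (hqF : (q : F) ≠ 0)
    (hN : ∑ a : A, ρ (a : Γ) = 0) (hab : ¬ ∀ a ∈ T, ∀ b ∈ T, a * b = b * a) : False := by
  classical
  haveI := Fact.mk h.tprime
  haveI := h.T_normal
  haveI := h.Phi_normal
  -- an element of the derived group
  obtain ⟨x0, hx0, u0, hu0, d0, hd0, hc⟩ :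
      ∃ x ∈ T, ∃ g ∈ U, ∃ d ∈ T, ⁅⁅x, g⁆, d⁆ ≠ 1 := by
    by_contra hcon
    push Not at hcon
    have hle : ⁅T, U⁆ ≤ centralizer (T : Set Γ) := commutator_le.2 fun x hx g hg =>
      mem_centralizer_iff.2 fun d hd => (commutatorElement_eq_one_iff_mul_comm.1 (hcon x hx g hg d hd)).symm
    rw [h.TU_eq] at hle
    exact hab fun a ha b hb => (mem_centralizer_iff.1 (hle ha) b hb).symm
  set a0 := ⁅x0, u0⁆ with ha0
  have ha0T : a0 ∈ T := h.TU_eq ▸ commutator_mem_commutator hx0 hu0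
  set c := ⁅a0, d0⁆ with hc'
  have hcPhi : c ∈ Cfg.Phi T := h.comm_mem_Phi ha0T hd0
  have hct : c ^ t = 1 := by
    have key : ∀ k : ℕ, ⁅a0 ^ k, d0⁆ = c ^ k := by
      intro k
      induction k with
      | zero => simp
      | succ k ih =>
        rw [pow_succ, show ⁅a0 ^ k * a0, d0⁆ = a0 ^ k * c * (a0 ^ k)⁻¹ * ⁅a0 ^ k, d0⁆ by
            simp only [hc', commutatorElement_def]; group,
          ← h.Phi_central hcPhi (pow_mem ha0T k), mul_inv_cancel_right, ih, ← pow_succ']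
    rw [← key, commutatorElement_eq_one_iff_mul_comm]
    exact h.Phi_central (h.pow_mem_Phi ha0T) hd0
  have hPle : Cfg.Phi T ≤ T := Cfg.Phi_le T
  have hPab : ∀ a ∈ Cfg.Phi T, ∀ b ∈ Cfg.Phi T, a * b = b * a := fun a ha b hb => h.Phi_central ha (hPle hb)
  obtain ⟨ψ, hψ, hψc⟩ := exists_eigen (ρ := ρ) hPab hcPhi hct htF (fun e => hc (hρT c (hPle hcPhi) e))
  have hPN : ∀ g : Γ, g ∈ normalizer ((Cfg.Phi T : Subgroup Γ) : Set Γ) := fun g => by
    rw [normalizer_eq_top]; exact mem_top _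
  obtain ⟨y, hyA, hy1, hyF, -, hnorm⟩ := exists_stab h.pq (fun g _ => hPN g)
    (h.cop_T.coprime_dvd_right (card_dvd_of_le hPle)) (by rw [eq_bot_iff, ← h.cT]; exact inf_le_inf_right _ hPle)
    hPab (natCard_cast_ne_zero htF (h.hT.to_le hPle)) hN hψ ⟨c, hcPhi, hψc⟩
  -- the stabiliser on its component
  set F0 := fixer (Cfg.Phi T) ψ with hF0
  have hTF : T ≤ F0 := fun g hg => ⟨hPN g, fun x hx => by
    rw [← h.Phi_central hx hg, mul_inv_cancel_right]⟩
  have hUF : U ≤ F0 := fun g hg => ⟨hPN g, fun x hx => by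
    rw [← Cfg.commute_of_commutator_eq_bot h.Phi_cent_U x hx g hg, mul_inv_cancel_right]⟩
  set W := eigenOf ρ (Cfg.Phi T) ψ with hW
  haveI : Nontrivial W := Submodule.nontrivial_iff_ne_bot.2 hψ
  let τ : F0 →* Module.End F W :=
    { toFun := fun g => (ρ (g : Γ)).restrict fun v hv => fixer_maps g.2 hv
      map_one' := LinearMap.ext fun v => Subtype.ext (by simp)
      map_mul' := fun a b => LinearMap.ext fun v => Subtype.ext (by
        simp [LinearMap.restrict_apply, Module.End.mul_apply]) }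
  have hτ : ∀ (g : F0) (v : W), ((τ g v : W) : V) = ρ (g : Γ) v := fun g v => rfl
  have hτPhi : ∀ g : F0, (g : Γ) ∈ Cfg.Phi T → τ g = ψ g • (1 : Module.End F W) := fun g hg =>
    LinearMap.ext fun v => Subtype.ext (by rw [hτ, mem_eigenOf.1 v.2 _ hg]; rfl)
  set T0 := T.subgroupOf F0 with hT0
  set U0 := U.subgroupOf F0 with hU0
  haveI hT0n : T0.Normal := inferInstance
  set y0 : F0 := ⟨y, hyF⟩ with hy0
  set r := orderOf y with hr'
  haveI : Fact r.Prime := ⟨by rw [hr', ← Nat.card_zpowers]; exact h.pq.prime_zpowers hyA hy1⟩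
  have hrA : r ∣ Nat.card A := by rw [hr', ← Nat.card_zpowers]; exact card_dvd_of_le (zpowers_le.2 hyA)
  have hrF : (r : F) ≠ 0 := by
    rcases h.pq.zpowers_prime hyA hy1 with e | e <;> rw [Nat.card_zpowers, ← hr'] at e <;> rw [e] <;> assumption
  have htr : t ≠ r := by
    rcases h.pq.zpowers_prime hyA hy1 with e | e <;> rw [Nat.card_zpowers, ← hr'] at e <;> rw [e]
    · exact h.tp
    · exact h.tq
  have hcardT : Nat.card T0 = Nat.card T := Nat.card_congr (subgroupOfEquivOfLe hTF).toEquiv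
  have hcardU : Nat.card U0 = Nat.card U := Nat.card_congr (subgroupOfEquivOfLe hUF).toEquiv
  have hS := zpowers_le.2 hyA
  have hL : (⁅U0, zpowers y0⁆ ⊔ zpowers y0).map F0.subtype = ⁅U, zpowers y⁆ ⊔ zpowers y := by
    rw [Subgroup.map_sup, map_commutator, hU0, map_subgroupOf_eq_of_le hUF, MonoidHom.map_zpowers]
    rfl
  -- the endgame
  refine endgame_ker (τ := τ) (T := T0) (U := U0) (t := t) (r := r) (y := y0) ⟨?_, ?_⟩
    (h.hT.of_equiv (subgroupOfEquivOfLe hTF).symm) htF hrF htr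
    (by rw [hcardU, hcardT]; exact h.cop_TU)
    (by rw [hcardU]; exact h.cop_U.symm.coprime_dvd_right hrA)
    (Subtype.ext (pow_orderOf_eq_one y)) ?_ ?_ ?_ ?_ ?_ ?_
  · exact fun a ha b hb =>
      ⟨ψ ⁅(a : Γ), (b : Γ)⁆, hτPhi ⁅a, b⁆ (h.comm_mem_Phi (mem_subgroupOf.1 ha) (mem_subgroupOf.1 hb))⟩
  · exact fun a ha => ⟨ψ ((a : Γ) ^ t), hτPhi (a ^ t) (h.pow_mem_Phi (mem_subgroupOf.1 ha))⟩
  · refine LinearMap.ext fun v => Subtype.ext ?_
    rw [LinearMap.sum_apply, Submodule.coe_sum, LinearMap.zero_apply, Submodule.coe_zero, ← hnorm v v.2]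
    refine Finset.sum_congr rfl fun i _ => ?_
    rw [← map_pow, hτ]
    rfl
  · exact mem_normalizer_iff.2 fun g => by
      simp only [hU0, mem_subgroupOf]
      exact mem_normalizer_iff.1 (h.AU hyA) (g : Γ)
  · intro g hg
    have hg' : (g : Γ) ∈ centralizer (T : Set Γ) := by
      have h1 : (⁅U0, U0⁆).map F0.subtype ≤ ⁅U, U⁆ := by
        rw [map_commutator]; exact commutator_mono (map_comap_le _ _) (map_comap_le _ _)
      exact (h1.trans h.U_comm_le (mem_map_of_mem F0.subtype hg)).2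
    exact mem_centralizer_iff.2 fun x hx => Subtype.ext (mem_centralizer_iff.1 hg' x (mem_subgroupOf.1 hx))
  · rw [hcardT, ← card_map_of_injective F0.subtype_injective, hL]
    exact h.coprime_KS hS
  · intro g hg
    have hgc : (g : Γ) ∈ centralizer ((⁅U, zpowers y⁆ ⊔ zpowers y : Subgroup Γ) : Set Γ) := by
      rw [← hL]
      refine mem_centralizer_iff.2 ?_
      rintro _ ⟨z, hz, rfl⟩
      exact congrArg Subtype.val (mem_centralizer_iff.1 hg.2 z hz)
    have hgP := h.fix_le hS (h.pq.prime_zpowers hyA hy1)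
      ⟨⟨mem_subgroupOf.1 hg.1,
        centralizer_le (show ((⁅U, zpowers y⁆ : Subgroup Γ) : Set Γ) ⊆ _ from fun _ => mem_sup_left) hgc⟩,
        centralizer_le (show ((zpowers y : Subgroup Γ) : Set Γ) ⊆ _ from fun _ => mem_sup_right) hgc⟩
    exact ⟨ψ g, hτPhi g hgP⟩
  · refine ⟨⟨x0, hTF hx0⟩, mem_subgroupOf.2 hx0, ⟨u0, hUF hu0⟩, mem_subgroupOf.2 hu0,
      ⟨d0, hTF hd0⟩, mem_subgroupOf.2 hd0, fun h2 => ?_⟩
    rw [hτPhi _ hcPhi] at h2
    obtain ⟨v, hv, hv0⟩ := Submodule.exists_mem_ne_zero_of_ne_bot hψ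
    have h3 : ψ c • v = v := congrArg (fun f : Module.End F W => ((f ⟨v, hv⟩ : W) : V)) h2
    refine hψc (sub_eq_zero.1 ((smul_eq_zero.1 ?_).resolve_right hv0))
    rw [sub_smul, one_smul, h3, sub_self]

/-- There is no such representation. -/
theorem no_config (h : Cfg A Q T U p q t u) [IsAlgClosed F] [FiniteDimensional F V] [Fintype A]
    (hρT : ∀ x ∈ T, ρ x = 1 → x = 1) (htF : (t : F) ≠ 0) (hpF : (p : F) ≠ 0) (hqF : (q : F) ≠ 0)
    (hN : ∑ a : A, ρ (a : Γ) = 0) : False := by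
  by_cases hab : ∀ a ∈ T, ∀ b ∈ T, a * b = b * a
  · exact no_config_abelian h hρT htF hN hab
  · exact no_config_nonabelian h hρT htF hpF hqF hN hab

end Cfsg.Lib.FitTwo
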