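import Cfsg.Agent.Lib.FitTwo.Key
import Cfsg.Agent.Lib.Core.Layer
import Cfsg.Agent.Lib.Local.CN
import Cfsg.Agent.Lib.Solv.FittingLength
import Cfsg.Agent.Lib.Solv.Frattini

/-!
A solvable group with a group of operators of order `p q`, coprime, nonabelian and without fixed points has
Fitting length at most two.
-/

set_option autoImplicit false
set_option linter.style.haveILetI false

namespace Cfsg.Lib.FitTwo

open Subgroup Cfsg.Lib.Local Cfsg.Lib.Solv
open scoped commutatorElement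

universe w

/-- A finite solvable group in which every element of prime power order centralises the cores of the other
primes is nilpotent. -/
theorem nilpotent_of_centralize {H : Type*} [Group H] [Finite H] [Group.IsSolvable H]
    (h : ∀ (u t : ℕ) (x : H) (i : ℕ), u.Prime → t.Prime → u ≠ t → orderOf x = u ^ i →
      x ∈ centralizer (Cfsg.pCore t H : Set H)) : Group.IsNilpotent H := by
  refine CN.isNilpotent_of_commute fun p q a b i j hp hq hpq ha hb => ?_
  haveI := Fact.mk hp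
  haveI := Fact.mk hq
  set z := ⁅a, b⁆ with hz
  -- the commutator centralises every core
  have hzC : ∀ t : Nat.Primes, z ∈ centralizer (Cfsg.pCore (t : ℕ) H : Set H) := by
    intro t
    have hn : ∀ x : H, x ∈ centralizer (Cfsg.pCore (t : ℕ) H : Set H) →
        ∀ g : H, g * x * g⁻¹ ∈ centralizer (Cfsg.pCore (t : ℕ) H : Set H) := fun x hx g =>
      (inferInstance : (centralizer (Cfsg.pCore (t : ℕ) H : Set H)).Normal).conj_mem x hx g
    by_cases htp : (t : ℕ) = p
    · have hb' := h q t b j hq t.2 (by omega) hb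
      rw [hz, show ⁅a, b⁆ = (a * b * a⁻¹) * b⁻¹ by rw [commutatorElement_def]]
      exact mul_mem (hn b hb' a) (inv_mem hb')
    · have ha' := h p t a i hp t.2 (fun e => htp e.symm) ha
      rw [hz, show ⁅a, b⁆ = a * (b * a⁻¹ * b⁻¹) by rw [commutatorElement_def]; group]
      exact mul_mem ha' (hn a⁻¹ (inv_mem ha') b)
  have hzF : z ∈ Cfsg.fittingSubgroup H := by
    refine Core.centralizer_fitting_le_of_isSolvable ?_
    rw [Core.fittingSubgroup_eq_iSup_pCore]
    have hle : (⨆ t : Nat.Primes, Cfsg.pCore (t : ℕ) H) ≤ centralizer ({z} : Set H) :=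
      iSup_le fun t x hx => mem_centralizer_singleton_iff.2 (mem_centralizer_iff.1 (hzC t) x hx)
    exact mem_centralizer_iff.2 fun x hx => mem_centralizer_singleton_iff.1 (hle hx)
  -- it lies in the core of the prime of either element
  have key : ∀ (p : ℕ) (a b : H) (i : ℕ), p.Prime → orderOf a = p ^ i → ⁅a, b⁆ ∈ Cfsg.fittingSubgroup H →
      ⁅a, b⁆ ∈ Cfsg.pCore p H := by
    intro p a b i hp ha hmem
    haveI := Fact.mk hp
    set O := Cfsg.pCore p H with hO
    set M := ⨆ t : {t : Nat.Primes // (t : ℕ) ≠ p}, Cfsg.pCore (t : ℕ) H with hM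
    have hMmem : M ∈ {N : Subgroup H | N.Normal ∧ (Nat.card N).Coprime p} := by
      refine Core.iSup_mem_of_sup_mem (S := {N : Subgroup H | N.Normal ∧ (Nat.card N).Coprime p})
        ⟨inferInstance, by simp⟩ (fun c hc d hd => ?_) _ fun t => ⟨inferInstance, ?_⟩
      · have := hc.1; have := hd.1
        exact ⟨Subgroup.sup_normal c d, (Nat.Coprime.mul_left hc.2 hd.2).coprime_dvd_left (Core.card_sup_dvd_mul c d)⟩
      · have : Fact (t.1 : ℕ).Prime := ⟨t.1.2⟩
        obtain ⟨n, hn⟩ := IsPGroup.iff_card.1 (Core.pCore_isPGroup (t.1 : ℕ) H)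
        rw [hn]
        exact Nat.Coprime.pow_left n ((Nat.coprime_primes t.1.2 hp).2 t.2)
    haveI := hMmem.1
    have hF : Cfsg.fittingSubgroup H ≤ O ⊔ M := by
      rw [Core.fittingSubgroup_eq_iSup_pCore]
      refine iSup_le fun t => ?_
      by_cases ht : (t : ℕ) = p
      · rw [ht]; exact le_sup_left
      · exact (le_iSup (fun t : {t : Nat.Primes // (t : ℕ) ≠ p} => Cfsg.pCore (t : ℕ) H) ⟨t, ht⟩).trans le_sup_right
    have haM : M ≤ centralizer ({a} : Set H) := iSup_le fun t x hx =>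
      mem_centralizer_singleton_iff.2 (mem_centralizer_iff.1
        (h p t a i hp t.1.2 (fun e => t.2 e.symm) ha) x hx)
    obtain ⟨o, ho, m, hm, hom⟩ := mem_sup_of_normal_right.1 (hF hmem)
    have hdis : Disjoint O M := by
      refine Cfsg.Lib.Coprime.disjoint_of_coprime_card ?_
      obtain ⟨n, hn⟩ := IsPGroup.iff_card.1 (Core.pCore_isPGroup p H)
      rw [hn]
      exact (hMmem.2.symm).pow_left n
    have homc : ∀ x ∈ O, Commute x m := fun x hx =>
      Subgroup.commute_of_normal_of_disjoint O M inferInstance inferInstance hdis x m hx hm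
    have ham : Commute a m := (mem_centralizer_singleton_iff.1 (haM hm)).symm
    -- a conjugate of `a` is `m⁻¹` times a `p`-element
    set v := o⁻¹ * a with hv
    have hconj : b * a * b⁻¹ = m⁻¹ * v := by
      rw [hv, ← mul_assoc, ← mul_inv_rev, hom, commutatorElement_def]
      group
    have hvm : Commute m⁻¹ v := (((homc o ho).inv_left).mul_left ham).symm.inv_left
    haveI : (O : Subgroup H).Normal := inferInstance
    have hP : IsPGroup p ↥(O ⊔ zpowers a) :=
      (Core.pCore_isPGroup p H).to_sup_of_normal_left (IsPGroup.iff_card.2 ⟨i, by rw [Nat.card_zpowers, ha]⟩)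
    obtain ⟨k, hk⟩ := hP ⟨v, mul_mem (mem_sup_left (inv_mem ho)) (mem_sup_right (mem_zpowers a))⟩
    have hk' : v ^ p ^ k = 1 := congrArg Subtype.val hk
    have hvK : v ^ p ^ (k + i) = 1 := by rw [pow_add, pow_mul, hk', one_pow]
    have haK : (b * a * b⁻¹) ^ p ^ (k + i) = 1 := by
      rw [conj_pow, show a ^ p ^ (k + i) = 1 from orderOf_dvd_iff_pow_eq_one.1
        (ha ▸ pow_dvd_pow p (Nat.le_add_left i k)), mul_one, mul_inv_cancel]
    rw [hconj, hvm.mul_pow, hvK, mul_one] at haK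
    have hmo : (orderOf m⁻¹).Coprime (p ^ (k + i)) := by
      refine Nat.Coprime.pow_right _ (hMmem.2.coprime_dvd_left ?_)
      rw [orderOf_inv, ← Nat.card_zpowers]
      exact card_dvd_of_le (zpowers_le.2 hm)
    have hm1 : m⁻¹ = 1 := orderOf_eq_one_iff.1
      (Nat.eq_one_of_dvd_coprimes hmo dvd_rfl (orderOf_dvd_of_pow_eq_one haK))
    rw [← hom, inv_eq_one.1 hm1, mul_one]
    exact ho
  have h1 := key p a b i hp ha hzF
  have h2 : ⁅a, b⁆ ∈ Cfsg.pCore q H := by
    have := key q b a j hq hb (by rw [← commutatorElement_inv a b]; exact inv_mem hzF)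
    rw [← commutatorElement_inv b a]
    exact inv_mem this
  refine commutatorElement_eq_one_iff_mul_comm.1 (Subgroup.disjoint_def.1 ?_ h1 h2)
  exact Cfsg.Lib.Coprime.disjoint_of_coprime_card
    (IsPGroup.coprime_card_of_ne p q hpq _ _ (Core.pCore_isPGroup p H) (Core.pCore_isPGroup q H))

/-- A normal solvable subgroup which is not nilpotent contains a moved pair. -/
theorem exists_pair {Γ : Type*} [Group Γ] [Finite Γ] {H A : Subgroup Γ} [hHn : H.Normal]
    (hsol : Group.IsSolvable H) (hAs : Group.IsSolvable A) (hcop : (Nat.card A).Coprime (Nat.card H))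
    (hnil : ¬ Group.IsNilpotent H) :
    ∃ (t u : ℕ) (T U : Subgroup Γ), t.Prime ∧ u.Prime ∧ t ≠ u ∧ T.Normal ∧ T ≤ H ∧ U ≤ H ∧
      IsPGroup t T ∧ IsPGroup u U ∧ A ≤ normalizer (U : Set Γ) ∧ ⁅T, U⁆ ≠ ⊥ := by
  haveI := hsol
  by_contra hcon
  push Not at hcon
  refine hnil (nilpotent_of_centralize fun u t x i hu ht hut hx => ?_)
  haveI := Fact.mk hu
  haveI := Fact.mk ht
  obtain ⟨P, hP⟩ := Cfsg.Lib.Coprime.exists_invariant_sylow (by rw [normalizer_eq_top]; exact le_top : A ≤ normalizer (H : Set Γ))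
    hcop (Or.inl hAs) u
  obtain ⟨Q, hQ⟩ := (IsPGroup.iff_card.2 ⟨i, by rw [Nat.card_zpowers, hx]⟩ : IsPGroup u (zpowers x)).exists_le_sylow
  obtain ⟨g, rfl⟩ := MulAction.exists_smul_eq H P Q
  set O := Cfsg.pCore t H
  have h0 : ⁅O.map H.subtype, (P : Subgroup H).map H.subtype⁆ = ⊥ :=
    hcon t u (O.map H.subtype) ((P : Subgroup H).map H.subtype) ht hu hut.symm
      (Core.normal_map_char_of_normal O) (map_subtype_le _) (map_subtype_le _)
      ((Core.pCore_isPGroup t H).map _) (P.isPGroup'.map _) hP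
  rw [← map_commutator, map_eq_bot_iff_of_injective _ H.subtype_injective] at h0
  have hPC : (P : Subgroup H) ≤ centralizer (O : Set H) := by
    rw [← commutator_eq_bot_iff_le_centralizer, Subgroup.commutator_comm]; exact h0
  have hxP : x ∈ (P : Subgroup H).map (MulAut.conj g).toMonoidHom := by
    have := hQ (mem_zpowers x)
    rw [Sylow.smul_def] at this
    exact this
  obtain ⟨y, hy, rfl⟩ := hxP
  exact (inferInstance : (centralizer (O : Set H)).Normal).conj_mem y (hPC hy) g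

/-- A minimal moved pair. -/
theorem exists_minimal_pair {Γ : Type*} [Group Γ] [Finite Γ] {T0 U0 A : Subgroup Γ} [hT0 : T0.Normal]
    {t u : ℕ} [Fact t.Prime] [Fact u.Prime] (htu : t ≠ u) (hT : IsPGroup t T0) (hU : IsPGroup u U0)
    (hAU : A ≤ normalizer (U0 : Set Γ)) (hne : ⁅T0, U0⁆ ≠ ⊥) :
    ∃ T U : Subgroup Γ, T ≤ T0 ∧ U ≤ U0 ∧ U ≤ normalizer (T : Set Γ) ∧ A ≤ normalizer (T : Set Γ) ∧
      A ≤ normalizer (U : Set Γ) ∧ T ≠ ⊥ ∧ ⁅T, U⁆ = T ∧
      (∀ L < T, U ≤ normalizer (L : Set Γ) → A ≤ normalizer (L : Set Γ) → ⁅L, U⁆ = ⊥) ∧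
      ∀ L < U, A ≤ normalizer (L : Set Γ) → ⁅T, L⁆ = ⊥ := by
  obtain ⟨U, ⟨hUU0, hAU', hUne⟩, hUmin⟩ := wellFounded_lt.has_min
    {U : Subgroup Γ | U ≤ U0 ∧ A ≤ normalizer (U : Set Γ) ∧ ⁅T0, U⁆ ≠ ⊥} ⟨U0, le_rfl, hAU, hne⟩
  have hNT0 : ∀ L : Subgroup Γ, L ≤ normalizer (T0 : Set Γ) := fun L => by rw [normalizer_eq_top]; exact le_top
  obtain ⟨T, ⟨hTT0, hUT, hAT, hTne⟩, hTmin⟩ := wellFounded_lt.has_min
    {T : Subgroup Γ | T ≤ T0 ∧ U ≤ normalizer (T : Set Γ) ∧ A ≤ normalizer (T : Set Γ) ∧ ⁅T, U⁆ ≠ ⊥}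
    ⟨T0, le_rfl, hNT0 U, hNT0 A, hUne⟩
  have hTmin' : ∀ L < T, U ≤ normalizer (L : Set Γ) → A ≤ normalizer (L : Set Γ) → ⁅L, U⁆ = ⊥ := by
    intro L hL h1 h2
    by_contra hh
    exact hTmin L ⟨hL.le.trans hTT0, h1, h2, hh⟩ hL
  have hle : ⁅T, U⁆ ≤ T := Cfsg.Lib.Coprime.commutator_le_of_le_normalizer hUT
  refine ⟨T, U, hTT0, hUU0, hUT, hAT, hAU', fun e => hTne (by rw [e, Subgroup.commutator_bot_left]), ?_,
    hTmin', fun L hL hA => ?_⟩
  · by_contra hne'
    have h1 := hTmin' _ (lt_of_le_of_ne hle hne') (Subgroup.normalizer_commutator_ge_right T U)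
      (Cfg.le_normalizer_commutator_of hAT hAU')
    have hcop : (Nat.card U).Coprime (Nat.card T) :=
      IsPGroup.coprime_card_of_ne u t htu.symm U T (hU.to_le hUU0) (hT.to_le hTT0)
    haveI := (hT.to_le hTT0).isNilpotent
    rw [Cfsg.Lib.Coprime.commutator_commutator_eq hUT hcop (Or.inr IsNilpotent.to_isSolvable)] at h1
    exact hTne h1
  · by_contra hh
    exact hUmin L ⟨hL.le.trans hUU0, hA, fun e => hh (le_bot_iff.1 ((commutator_mono hTT0 le_rfl).trans e.le))⟩ hL

/-- No minimal moved pair has a representation with zero norm. -/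
theorem no_moved {Γ : Type w} [Group Γ] [Finite Γ] {A Q T U : Subgroup Γ} {p q t u : ℕ} (hpq : Pq A Q p q)
    (ht : t.Prime) (hu : u.Prime) (htu : t ≠ u) (htA : (Nat.card A).Coprime t) (huA : (Nat.card A).Coprime u)
    (hT : IsPGroup t T) (hU : IsPGroup u U) (hUT : U ≤ normalizer (T : Set Γ))
    (hAT : A ≤ normalizer (T : Set Γ)) (hAU : A ≤ normalizer (U : Set Γ)) (hcT : T ⊓ centralizer (A : Set Γ) = ⊥)
    (hcU : U ⊓ centralizer (A : Set Γ) = ⊥) (hTne : T ≠ ⊥) (hTU : ⁅T, U⁆ = T)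
    (hTmin : ∀ L < T, U ≤ normalizer (L : Set Γ) → A ≤ normalizer (L : Set Γ) → ⁅L, U⁆ = ⊥)
    (hUmin : ∀ L < U, A ≤ normalizer (L : Set Γ) → ⁅T, L⁆ = ⊥) [Fintype A] {F : Type*} [Field F] [IsAlgClosed F]
    {V : Type*} [AddCommGroup V] [Module F V] [FiniteDimensional F V] {ρ : Γ →* Module.End F V}
    (hρT : ∀ x ∈ T, ρ x = 1 → x = 1) (htF : (t : F) ≠ 0) (hpF : (p : F) ≠ 0) (hqF : (q : F) ≠ 0)
    (hN : ∑ a : A, ρ (a : Γ) = 0) : False := by
  classical
  set R := T ⊔ U ⊔ A with hR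
  have hTR : T ≤ R := le_sup_left.trans le_sup_left
  have hUR : U ≤ R := le_sup_right.trans le_sup_left
  have hAR : A ≤ R := le_sup_right
  have hmap : ∀ {L : Subgroup Γ}, L ≤ R → (L.subgroupOf R).map R.subtype = L := fun hL => map_subgroupOf_eq_of_le hL
  have hN' : ∀ {X L : Subgroup Γ}, X ≤ normalizer (L : Set Γ) →
      X.subgroupOf R ≤ normalizer ((L.subgroupOf R : Subgroup R) : Set R) := fun hXL g hg =>
    mem_normalizer_iff.2 fun k => by
      simp only [mem_subgroupOf]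
      exact mem_normalizer_iff.1 (hXL (mem_subgroupOf.1 hg)) (k : Γ)
  have hcomm : ∀ {X L : Subgroup Γ}, X ≤ R → L ≤ R → ⁅X.subgroupOf R, L.subgroupOf R⁆.map R.subtype = ⁅X, L⁆ :=
    fun hX hL => by rw [map_commutator, hmap hX, hmap hL]
  have hcardA : Nat.card (A.subgroupOf R) = Nat.card A := Nat.card_congr (subgroupOfEquivOfLe hAR).toEquiv
  have hcent : ∀ {X : Subgroup Γ}, X ⊓ centralizer (A : Set Γ) = ⊥ →
      X.subgroupOf R ⊓ centralizer ((A.subgroupOf R : Subgroup R) : Set R) = ⊥ := fun hX => by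
    rw [eq_bot_iff]
    intro x hx
    refine mem_bot.2 (Subtype.ext (mem_bot.1 (hX ▸ ⟨mem_subgroupOf.1 hx.1, mem_centralizer_iff.2 fun a ha => ?_⟩)))
    exact congrArg Subtype.val (mem_centralizer_iff.1 hx.2 ⟨a, hAR ha⟩ (mem_subgroupOf.2 ha))
  have hnorm_map : ∀ {X : Subgroup Γ} {L : Subgroup R}, X ≤ R →
      X.subgroupOf R ≤ normalizer (L : Set R) → X ≤ normalizer ((L.map R.subtype : Subgroup Γ) : Set Γ) :=
    fun {X L} hX hL => by
      have := (map_mono hL).trans (le_normalizer_map R.subtype)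
      rwa [hmap hX] at this
  have hlt : ∀ {L : Subgroup R} {X : Subgroup Γ}, X ≤ R → L < X.subgroupOf R → L.map R.subtype < X :=
    fun {L X} hX hL => by
      have := map_lt_map_iff_of_injective R.subtype_injective |>.2 hL
      rwa [hmap hX] at this
  have hQR : Q ≤ R := hpq.qle.trans hAR
  have hpq' : Pq (A.subgroupOf R) (Q.subgroupOf R) p q :=
    ⟨hpq.pprime, hpq.qprime, hpq.pneq, hcardA.trans hpq.card,
      fun hc => hpq.nonab fun a ha b hb =>
        congrArg Subtype.val (hc ⟨a, hAR ha⟩ (mem_subgroupOf.2 ha) ⟨b, hAR hb⟩ (mem_subgroupOf.2 hb)),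
      comap_mono hpq.qle, (Nat.card_congr (subgroupOfEquivOfLe hQR).toEquiv).trans hpq.qcard, hN' hpq.qnorm⟩
  have hne : ∀ {r : ℕ}, r.Prime → (Nat.card A).Coprime r → r ≠ p ∧ r ≠ q := fun hr hc => by
    constructor <;> rintro rfl <;> apply hr.ne_one
    · exact Nat.eq_one_of_dvd_coprimes hc (hpq.card ▸ dvd_mul_right _ _) dvd_rfl
    · exact Nat.eq_one_of_dvd_coprimes hc (hpq.card ▸ dvd_mul_left _ _) dvd_rfl
  have hcfg : Cfg (A.subgroupOf R) (Q.subgroupOf R) (T.subgroupOf R) (U.subgroupOf R) p q t u :=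
    { pq := hpq'
      tprime := ht
      uprime := hu
      tu := htu
      tp := (hne ht htA).1
      tq := (hne ht htA).2
      up := (hne hu huA).1
      uq := (hne hu huA).2
      hT := hT.of_equiv (subgroupOfEquivOfLe hTR).symm
      hU := hU.of_equiv (subgroupOfEquivOfLe hUR).symm
      UT := hN' hUT
      AT := hN' hAT
      AU := hN' hAU
      top := by
        refine map_injective R.subtype_injective ?_
        rw [Subgroup.map_sup, Subgroup.map_sup, hmap hTR, hmap hUR, hmap hAR, ← MonoidHom.range_eq_map,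
          range_subtype]
      cT := hcent hcT
      cU := hcent hcU
      Tne := fun e => hTne (by rw [← hmap hTR, e, Subgroup.map_bot])
      TU_eq := map_injective R.subtype_injective (by rw [hcomm hTR hUR, hmap hTR, hTU])
      Tmin := fun L hL h1 h2 => map_injective R.subtype_injective (by
        rw [map_commutator, hmap hUR, Subgroup.map_bot]
        exact hTmin _ (hlt hTR hL) (hnorm_map hUR h1) (hnorm_map hAR h2))
      Umin := fun L hL h2 => map_injective R.subtype_injective (by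
        rw [map_commutator, hmap hTR, Subgroup.map_bot]
        exact hUmin _ (hlt hUR hL) (hnorm_map hAR h2)) }
  letI : Fintype (A.subgroupOf R) := Fintype.ofFinite _
  refine no_config hcfg (ρ := ρ.comp R.subtype)
    (fun x hx e => Subtype.ext (hρT x (mem_subgroupOf.1 hx) e)) htF hpF hqF ?_
  rw [← hN]
  exact Fintype.sum_equiv (subgroupOfEquivOfLe hAR).toEquiv _ _ fun a => rfl

/-- Conjugation on an elementary abelian normal subgroup, over an algebraically closed field. -/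
theorem exists_rep {Γ : Type w} [Group Γ] [Finite Γ] (V : Subgroup Γ) [V.Normal] {s : ℕ} [Fact s.Prime]
    (hVc : ∀ a ∈ V, ∀ b ∈ V, a * b = b * a) (hVexp : ∀ a ∈ V, a ^ s = 1) {A : Subgroup Γ}
    (hC : V ⊓ centralizer (A : Set Γ) = ⊥) [Fintype (A.map (QuotientGroup.mk' V))] :
    ∃ (W : Type w) (_ : AddCommGroup W) (_ : Module (AlgebraicClosure (ZMod s)) W)
      (_ : FiniteDimensional (AlgebraicClosure (ZMod s)) W)
      (ρ : Γ ⧸ V →* Module.End (AlgebraicClosure (ZMod s)) W),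
      (∀ g : Γ, ρ (QuotientGroup.mk' V g) = 1 → g ∈ centralizer (V : Set Γ)) ∧
        ∑ a : A.map (QuotientGroup.mk' V), ρ (a : Γ ⧸ V) = 0 := by
  letI instCV : CommGroup V := { (inferInstance : Group V) with mul_comm := fun a b => Subtype.ext (hVc _ a.2 _ b.2) }
  haveI instMV : Module (ZMod s) (Additive V) := AddCommGroup.zmodModule fun x =>
    Additive.toMul.injective (Subtype.ext (hVexp _ x.toMul.2))
  let φ : Γ →* Module.End (ZMod s) (Additive V) :=
    { toFun := fun g => (MonoidHom.toAdditive ((MulAut.conjNormal (H := V) g).toMonoidHom)).toZModLinearMap _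
      map_one' := LinearMap.ext fun v => by
        simp [AddMonoidHom.coe_toZModLinearMap]
      map_mul' := fun g g' => LinearMap.ext fun v => by
        simp [AddMonoidHom.coe_toZModLinearMap, Module.End.mul_apply, map_mul, MulAut.mul_apply] }
  have hφ : ∀ (g : Γ) (v : Additive V), (((φ g v).toMul : V) : Γ) = g * (v.toMul : Γ) * g⁻¹ := fun g v =>
    MulAut.conjNormal_apply _ _
  let π : Γ →* Γ ⧸ V := QuotientGroup.mk' V
  let ρ0 : Γ ⧸ V →* Module.End (ZMod s) (Additive V) := QuotientGroup.lift V φ fun g hg =>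
    LinearMap.ext fun v => Additive.toMul.injective (Subtype.ext (by
      refine (hφ g v).trans ?_
      rw [hVc g hg _ v.toMul.2, mul_inv_cancel_right]
      rfl))
  have hρ0 : ∀ g : Γ, ρ0 (π g) = φ g := fun g => rfl
  have hN0 : ∑ a : A.map π, ρ0 (a : Γ ⧸ V) = 0 := by
    refine LinearMap.ext fun v => ?_
    rw [LinearMap.sum_apply, LinearMap.zero_apply]
    set x := ∑ a : A.map π, ρ0 (a : Γ ⧸ V) v with hx
    have hfix : ∀ b : A.map π, ρ0 (b : Γ ⧸ V) x = x := by
      intro b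
      rw [hx, map_sum]
      refine Fintype.sum_equiv (Equiv.mulLeft b) _ _ fun a => ?_
      exact (ρ_mul_apply ρ0 (b : Γ ⧸ V) (a : Γ ⧸ V) v).symm
    have hmem : ((x.toMul : V) : Γ) ∈ V ⊓ centralizer (A : Set Γ) := by
      refine ⟨x.toMul.2, mem_centralizer_iff.2 fun a ha => ?_⟩
      have h1 := hφ a x
      rw [← hρ0, hfix ⟨π a, mem_map_of_mem π ha⟩] at h1
      exact mul_inv_eq_iff_eq_mul.1 h1.symm
    rw [hC, mem_bot] at hmem
    exact Additive.toMul.injective (Subtype.ext hmem)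
  refine ⟨TensorProduct (ZMod s) (AlgebraicClosure (ZMod s)) (Additive V), inferInstance, inferInstance,
    inferInstance, closureRep ρ0, fun g h1 => mem_centralizer_iff.2 fun y hy => ?_, ?_⟩
  · have h2 : ρ0 (π g) = 1 :=
      LinearMap.baseChangeHom_injective (ZMod s) (Additive V) (AlgebraicClosure (ZMod s))
        (h1.trans (map_one (Module.End.baseChangeHom (ZMod s) (AlgebraicClosure (ZMod s)) (Additive V))).symm)
    rw [hρ0] at h2
    have h3 := hφ g (Additive.ofMul ⟨y, hy⟩)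
    rw [h2] at h3
    exact (mul_inv_eq_iff_eq_mul.1 h3.symm).symm
  · have h := congrArg (Module.End.baseChangeHom (ZMod s) (AlgebraicClosure (ZMod s)) (Additive V)) hN0
    rw [map_sum, map_zero] at h
    exact h

/-- A coprime group of operators of order `p q`, nonabelian and without fixed points, bounds the Fitting
length by two. -/
theorem fle_two : ∀ (n : ℕ) {Γ : Type w} [Group Γ] [Finite Γ] {A Q G : Subgroup Γ} {p q : ℕ},
    Pq A Q p q → G.Normal → (Nat.card A).Coprime (Nat.card G) → G ⊓ centralizer (A : Set Γ) = ⊥ →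
    Group.IsSolvable G → Nat.card G = n → FLe 2 G := by
  intro n
  induction n using Nat.strong_induction_on with
  | _ n ih =>
  intro Γ _ _ A Q G p q hpq hGn hcop hC hsol hn
  classical
  haveI := hGn
  haveI := hsol
  -- images
  have himg : ∀ (N : Subgroup Γ) [N.Normal], N ≤ G →
      Pq (A.map (QuotientGroup.mk' N)) (Q.map (QuotientGroup.mk' N)) p q ∧
      (Nat.card (A.map (QuotientGroup.mk' N))).Coprime (Nat.card (G.map (QuotientGroup.mk' N))) ∧
      G.map (QuotientGroup.mk' N) ⊓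
        centralizer ((A.map (QuotientGroup.mk' N) : Subgroup _) : Set (Γ ⧸ N)) = ⊥ := by
    intro N _ hNG
    refine ⟨hpq.map _ fun a ha h1 => ?_,
      (hcop.coprime_dvd_left (card_map_dvd A _)).coprime_dvd_right (card_map_dvd G _), ?_⟩
    · exact Subgroup.disjoint_def.1 (Cfsg.Lib.Coprime.disjoint_of_coprime_card hcop) ha
        (hNG ((QuotientGroup.eq_one_iff _).1 h1))
    · rw [← Cfsg.Lib.Coprime.map_inf_centralizer_eq _ (by rw [normalizer_eq_top]; exact le_top) hcop
        (Or.inl hpq.isSolvable), hC, Subgroup.map_bot]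
  -- characteristic quotients
  have hker : ∀ (C : Subgroup G) [C.Characteristic],
      ((QuotientGroup.mk' (C.map G.subtype)).comp G.subtype).ker = C := by
    intro C _
    rw [← MonoidHom.comap_ker, QuotientGroup.ker_mk', comap_map_eq_self_of_injective G.subtype_injective]
  have heq : ∀ (C : Subgroup G) [C.Characteristic],
      Nonempty (↥(G.map (QuotientGroup.mk' (C.map G.subtype))) ≃* G ⧸ C) := by
    intro C _
    have hr : ((QuotientGroup.mk' (C.map G.subtype)).comp G.subtype).range = G.map (QuotientGroup.mk' (C.map G.subtype)) := by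
      rw [MonoidHom.range_comp, range_subtype]
    exact ⟨((MulEquiv.subgroupCongr hr.symm).trans
      (QuotientGroup.quotientKerEquivRange _).symm).trans (QuotientGroup.quotientMulEquivOfEq (hker C))⟩
  have hq' : ∀ (C : Subgroup G) [C.Characteristic], C ≠ ⊥ → FLe 2 (G ⧸ C) := by
    intro C _ hC0
    obtain ⟨e⟩ := heq C
    obtain ⟨h1, h2, h3⟩ := himg (C.map G.subtype) (map_subtype_le _)
    refine (ih (Nat.card (G.map (QuotientGroup.mk' (C.map G.subtype)))) ?_ h1
      (hGn.map _ (QuotientGroup.mk'_surjective _)) h2 h3 (Core.isSolvable_map hsol _) rfl).of_equiv e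
    rw [Nat.card_congr e.toEquiv, ← hn]
    exact Core.card_quotient_lt hC0
  by_cases hΦ : frattini G = ⊥
  swap
  · exact FLe.of_quotient_frattini (hq' _ hΦ)
  -- the Fitting subgroup
  by_cases hall : ∀ s : Nat.Primes, Cfsg.pCore (s : ℕ) G = ⊥
  · have hF : Cfsg.fittingSubgroup G = ⊥ := by
      rw [Core.fittingSubgroup_eq_iSup_pCore]
      exact iSup_eq_bot.2 hall
    have h1 := Core.centralizer_fitting_le_of_isSolvable (G := G)
    rw [hF, coe_bot, le_bot_iff, eq_bot_iff] at h1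
    have h2 : (⊤ : Subgroup G) ≤ ⊥ := fun x _ => h1 (mem_centralizer_iff.2 fun y hy => by
      rw [Set.mem_singleton_iff.1 hy, one_mul, mul_one])
    exact (fle_zero_iff.2 (subsingleton_iff.1 (subsingleton_of_bot_eq_top
      (top_le_iff.1 h2)))).mono (Nat.zero_le 2)
  push Not at hall
  obtain ⟨s, hsne⟩ := hall
  haveI := Fact.mk s.2
  by_cases htwo : ∃ r : Nat.Primes, r ≠ s ∧ Cfsg.pCore (r : ℕ) G ≠ ⊥
  · obtain ⟨r, hrs, hrne⟩ := htwo
    haveI := Fact.mk r.2
    refine FLe.of_inf_eq_bot _ _ ?_ (hq' _ hsne) (hq' _ hrne)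
    exact disjoint_iff.1 (Cfsg.Lib.Coprime.disjoint_of_coprime_card (IsPGroup.coprime_card_of_ne _ _
      (fun e => hrs (Subtype.ext e.symm)) _ _ (Core.pCore_isPGroup _ G) (Core.pCore_isPGroup _ G)))
  push Not at htwo
  set V' := Cfsg.pCore (s : ℕ) G with hV'
  have hF : Cfsg.fittingSubgroup G = V' := by
    rw [Core.fittingSubgroup_eq_iSup_pCore]
    refine le_antisymm (iSup_le fun r => ?_) (le_iSup (fun r : Nat.Primes => Cfsg.pCore (r : ℕ) G) s)
    rcases eq_or_ne r s with rfl | hr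
    · exact le_rfl
    · rw [htwo r hr]; exact bot_le
  have hV'p : IsPGroup (s : ℕ) V' := Core.pCore_isPGroup _ G
  have hV'Φ : frattini V' = ⊥ := by
    refine map_injective V'.subtype_injective ?_
    rw [Subgroup.map_bot, eq_bot_iff, ← hΦ]
    exact Solv.frattini_map_le_of_normal V'
  obtain ⟨e0⟩ := heq V'
  set V := V'.map G.subtype with hV
  haveI hVn : V.Normal := Core.normal_map_char_of_normal V'
  set π := QuotientGroup.mk' V with hπ
  set H1 := G.map π with hH1
  obtain ⟨hpq1, hcop1, hC1⟩ := himg V (map_subtype_le _)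
  by_cases hnil : Group.IsNilpotent H1
  · exact FLe.extension V' hV'p.isNilpotent ((FLe.one_of_isNilpotent hnil).of_equiv e0)
  exfalso
  haveI : H1.Normal := hGn.map _ (QuotientGroup.mk'_surjective _)
  obtain ⟨t, u, T0, U0, ht, hu, htu, hT0n, hT0H, hU0H, hT0, hU0, hAU0, hne⟩ :=
    exists_pair (Core.isSolvable_map hsol π) hpq1.isSolvable hcop1 hnil
  haveI := Fact.mk ht
  haveI := Fact.mk hu
  haveI := hT0n
  obtain ⟨T, U, hTT0, hUU0, hUT, hAT, hAU, hTne, hTU, hTmin, hUmin⟩ :=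
    exists_minimal_pair htu hT0 hU0 hAU0 hne
  have hVG : V ≤ G := map_subtype_le _
  have hVp : IsPGroup (s : ℕ) V := hV'p.map _
  have hts : t ≠ (s : ℕ) := by
    rintro rfl
    refine hTne (le_bot_iff.1 (hTT0.trans ?_))
    have hle : T0.comap π ≤ G := by
      refine (comap_mono hT0H).trans ?_
      rw [comap_map_eq, hπ, QuotientGroup.ker_mk', sup_eq_left.2 hVG]
    have hp : IsPGroup (s : ℕ) (T0.comap π) :=
      hT0.comap_of_ker_isPGroup π (by rw [hπ, QuotientGroup.ker_mk']; exact hVp)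
    have h1 : (T0.comap π).subgroupOf G ≤ V' :=
      Core.le_pCore' inferInstance (hp.of_equiv (subgroupOfEquivOfLe hle).symm)
    have h2 := map_mono (f := G.subtype) h1
    rw [map_subgroupOf_eq_of_le hle] at h2
    rw [← map_comap_eq_self_of_surjective (QuotientGroup.mk'_surjective V) T0]
    exact (map_mono h2).trans (by rw [QuotientGroup.map_mk'_self])
  have hdvd : ∀ {r : ℕ} [Fact r.Prime] {L : Subgroup (Γ ⧸ V)}, IsPGroup r L → L ≤ H1 → L ≠ ⊥ →
      (Nat.card (A.map π)).Coprime r := by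
    intro r _ L hL hLH hL0
    obtain ⟨k, hk⟩ := IsPGroup.iff_card.1 hL
    have hk0 : k ≠ 0 := fun e => hL0 (card_eq_one.1 (by rw [hk, e, pow_zero]))
    exact hcop1.coprime_dvd_right ((dvd_pow_self r hk0).trans (hk ▸ card_dvd_of_le hLH))
  have hUne : U ≠ ⊥ := fun e => hTne (by rw [← hTU, e, Subgroup.commutator_bot_right])
  -- the module
  have hVc : ∀ a ∈ V, ∀ b ∈ V, a * b = b * a := by
    rintro _ ⟨a, ha, rfl⟩ _ ⟨b, hb, rfl⟩
    have h1 : ⁅(⟨a, ha⟩ : V'), ⟨b, hb⟩⁆ ∈ frattini V' :=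
      PGroup.commutator_le_frattini hV'p (commutator_mem_commutator (mem_top _) (mem_top _))
    rw [hV'Φ, mem_bot, commutatorElement_eq_one_iff_mul_comm] at h1
    exact congrArg (fun x : V' => ((x : G) : Γ)) h1
  have hVexp : ∀ a ∈ V, a ^ (s : ℕ) = 1 := by
    rintro _ ⟨a, ha, rfl⟩
    have h1 : (⟨a, ha⟩ : V') ^ (s : ℕ) ∈ frattini V' := PGroup.pow_mem_frattini hV'p _
    rw [hV'Φ, mem_bot] at h1
    exact congrArg (fun x : V' => ((x : G) : Γ)) h1
  haveI : Fintype (A.map π) := Fintype.ofFinite _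
  obtain ⟨W, iW1, iW2, iW3, ρ, hker', hsum⟩ := exists_rep V hVc hVexp (A := A)
    (le_bot_iff.1 (hC ▸ inf_le_inf_right _ hVG))
  have hinj : ∀ x ∈ T, ρ x = 1 → x = 1 := by
    intro x hx h1
    obtain ⟨g, hg, rfl⟩ := hT0H (hTT0 hx)
    refine (QuotientGroup.eq_one_iff _).2 ⟨⟨g, hg⟩, ?_, rfl⟩
    refine hF ▸ Core.centralizer_fitting_le_of_isSolvable (G := G) (mem_centralizer_iff.2 fun y hy => ?_)
    rw [hF] at hy
    exact Subtype.ext (mem_centralizer_iff.1 (hker' g h1) y (mem_map_of_mem G.subtype hy))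
  have hcast : ∀ r : ℕ, r.Prime → r ≠ (s : ℕ) → (r : AlgebraicClosure (ZMod (s : ℕ))) ≠ 0 := by
    intro r hr hrs
    haveI : CharP (AlgebraicClosure (ZMod (s : ℕ))) (s : ℕ) :=
      charP_of_injective_algebraMap (algebraMap (ZMod (s : ℕ)) _).injective _
    rw [Ne, CharP.cast_eq_zero_iff _ (s : ℕ)]
    exact fun hd => hrs ((Nat.prime_dvd_prime_iff_eq s.2 hr).1 hd).symm
  have hsG : (s : ℕ) ∣ Nat.card G := by
    obtain ⟨k, hk⟩ := IsPGroup.iff_card.1 hV'p
    have hk0 : k ≠ 0 := fun e => hsne (card_eq_one.1 (by rw [hk, e, pow_zero]))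
    exact (dvd_pow_self _ hk0).trans (hk ▸ card_subgroup_dvd_card V')
  have hsA : ∀ r : ℕ, r.Prime → r ∣ Nat.card A → r ≠ (s : ℕ) := by
    rintro r hr hd rfl
    exact hr.ne_one (Nat.eq_one_of_dvd_coprimes hcop hd hsG)
  refine no_moved hpq1 ht hu htu (hdvd (hT0.to_le hTT0) (hTT0.trans hT0H) hTne)
    (hdvd (hU0.to_le hUU0) (hUU0.trans hU0H) hUne) (hT0.to_le hTT0) (hU0.to_le hUU0) hUT hAT hAU
    (le_bot_iff.1 (hC1 ▸ inf_le_inf_right _ (hTT0.trans hT0H)))
    (le_bot_iff.1 (hC1 ▸ inf_le_inf_right _ (hUU0.trans hU0H))) hTne hTU hTmin hUmin (ρ := ρ) hinj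
    (hcast t ht hts) (hcast p hpq.pprime (hsA p hpq.pprime (hpq.card ▸ dvd_mul_right _ _)))
    (hcast q hpq.qprime (hsA q hpq.qprime (hpq.card ▸ dvd_mul_left _ _))) hsum

end Cfsg.Lib.FitTwo
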